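import Mathlib

/-!
Maximal points and neighbourhoods on locally noetherian schemes.
-/

set_option autoImplicit false
universe u

open CategoryTheory AlgebraicGeometry TopologicalSpace

namespace Groth.Agent.Sweep9Lib

lemma exists_maximal_specializes (X : Scheme.{u}) (x : X) :
    ∃ y : X, y ⤳ x ∧ closure {y} ∈ irreducibleComponents X := by
  have h := irreducibleComponent_mem_irreducibleComponents x
  have hi := h.1
  refine ⟨hi.genericPoint, ?_, ?_⟩
  · exact hi.isGenericPoint_genericPoint_closure.specializes (subset_closure mem_irreducibleComponent)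
  · rw [hi.isGenericPoint_genericPoint_closure.def, isClosed_irreducibleComponent.closure_eq]
    exact h

lemma eq_of_specializes_maximal {X : Scheme.{u}} {y z : X}
    (hy : closure ({y} : Set X) ∈ irreducibleComponents X) (hz : z ⤳ y) : z = y := by
  have h1 : closure ({y} : Set X) ⊆ closure {z} :=
    closure_minimal (Set.singleton_subset_iff.2 (specializes_iff_mem_closure.1 hz)) isClosed_closure
  have h2 : z ∈ closure ({y} : Set X) :=
    hy.2 isIrreducible_singleton.closure h1 (subset_closure rfl)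
  exact (hz.antisymm (specializes_iff_mem_closure.2 h2)).eq

lemma isDominant_iff_maximal {X Y : Scheme.{u}} (f : X ⟶ Y) [QuasiCompact f] :
    IsDominant f ↔ ∀ y : Y, closure {y} ∈ irreducibleComponents Y →
      ∃ x : X, closure {x} ∈ irreducibleComponents X ∧ f x = y := by
  constructor
  · intro hf y hy
    obtain ⟨W, hW, hyW, -⟩ := exists_isAffineOpen_mem_and_subset (x := y) (U := ⊤) trivial
    have : IsAffine (W : Scheme.{u}) := hW
    let g := f ∣_ W
    have hg : QuasiCompact g := IsZariskiLocalAtTarget.restrict ‹_› _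
    have hgd : IsDominant g := IsZariskiLocalAtTarget.restrict hf W
    obtain ⟨R, q, hq⟩ := compactSpace_iff_exists.mp (QuasiCompact.compactSpace_of_compactSpace g)
    let e := (W : Scheme.{u}).isoSpec.hom
    obtain ⟨φ, hφ⟩ : ∃ φ, Spec.map φ = q ≫ g ≫ e := ⟨_, Spec.map_preimage _⟩
    have hd : DenseRange (Spec.map φ) := by
      rw [hφ, Scheme.Hom.comp_base, TopCat.coe_comp, Scheme.Hom.comp_base, TopCat.coe_comp]
      exact (e.homeomorph.surjective.denseRange.comp hgd.denseRange e.continuous).comp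
        hq.denseRange (e.continuous.comp g.continuous)
    have hmin := (PrimeSpectrum.denseRange_comap_iff_minimalPrimes φ.hom).1 hd
      (e ⟨y, hyW⟩).asIdeal ?_
    · obtain ⟨r, hr⟩ := hmin
      let x₀ : X := (q r).1
      have hx₀ : f x₀ = y := by
        have h1 : e (g (q r)) = e ⟨y, hyW⟩ := by
          rw [← Scheme.Hom.comp_apply, ← Scheme.Hom.comp_apply, ← hφ]
          exact hr
        have h2 := e.isEmbedding.injective h1
        exact (morphismRestrict_base_coe f W (q r)).symm.trans (congrArg Subtype.val h2)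
      obtain ⟨x, hx, hxm⟩ := exists_maximal_specializes X x₀
      refine ⟨x, hxm, eq_of_specializes_maximal hy ?_⟩
      rw [← hx₀]
      exact hx.map f.continuous
    · refine ⟨⟨(e ⟨y, hyW⟩).isPrime, bot_le⟩, fun P hP hle => ?_⟩
      obtain ⟨w, hw⟩ := e.homeomorph.surjective ⟨P, hP.1⟩
      have h1 : e w ⤳ e ⟨y, hyW⟩ := by
        refine (PrimeSpectrum.le_iff_specializes _ _).1 ?_
        change (e w).asIdeal ≤ _
        rw [show e w = ⟨P, hP.1⟩ from hw]
        exact hle
      have h2 : w ⤳ (⟨y, hyW⟩ : W) := (e.isEmbedding.isInducing.specializes_iff).1 h1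
      have h3 : w = (⟨y, hyW⟩ : W) :=
        Subtype.ext (eq_of_specializes_maximal hy (h2.map continuous_subtype_val))
      rw [← h3]
      exact le_of_eq (congrArg PrimeSpectrum.asIdeal hw)
  · intro h
    refine ⟨fun y => ?_⟩
    obtain ⟨y', hy', hm⟩ := exists_maximal_specializes Y y
    obtain ⟨x, -, rfl⟩ := h y' hm
    exact hy'.mem_closed isClosed_closure (subset_closure ⟨x, rfl⟩)

lemma exists_irreducible_nhd (X : Scheme.{u}) [IsLocallyNoetherian X] (x : X)
    (hx : (nilradical (X.presheaf.stalk x)).IsPrime) :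
    ∃ U : X.Opens, x ∈ U ∧ IsIrreducible (U : Set X) := by
  obtain ⟨W, hW, hxW, -⟩ := exists_isAffineOpen_mem_and_subset (x := x) (U := ⊤) trivial
  have : IsNoetherianRing Γ(X, W) := IsLocallyNoetherian.component_noetherian ⟨W, hW⟩
  have hN : NoetherianSpace (W : Scheme.{u}) := by
    have : IsAffine (W : Scheme.{u}) := hW
    have e := hW.isoSpec.hom.homeomorph
    exact noetherianSpace_iff_of_homeomorph e |>.2 inferInstance
  let η : X := X.fromSpecStalk x ⟨nilradical _, hx⟩
  have hη : ∀ z : X, z ⤳ x → η ⤳ z := by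
    intro z hz
    obtain ⟨p, rfl⟩ : z ∈ Set.range (X.fromSpecStalk x) := by
      rw [Scheme.range_fromSpecStalk]; exact hz
    exact ((PrimeSpectrum.le_iff_specializes ⟨_, hx⟩ p).1 (nilradical_le_prime p.asIdeal)).map
      (X.fromSpecStalk x).continuous
  have hηx : η ⤳ x := Scheme.range_fromSpecStalk.subset ⟨_, rfl⟩
  have hfin := NoetherianSpace.finite_irreducibleComponents (α := (W : Scheme.{u}))
  let bad := {C ∈ irreducibleComponents (W : Scheme.{u}) | (⟨x, hxW⟩ : W) ∉ C}
  have hbad : IsClosed (⋃ C ∈ bad, C) :=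
    (hfin.subset (fun C h => h.1)).isClosed_biUnion fun C hC => isClosed_of_mem_irreducibleComponents C hC.1
  let ηW : W := ⟨η, hηx.mem_open W.isOpen hxW⟩
  have hsub : (⋃ C ∈ bad, C)ᶜ ⊆ closure ({ηW} : Set (W : Scheme.{u})) := by
    intro w hw
    have hC := irreducibleComponent_mem_irreducibleComponents w
    have hxC : (⟨x, hxW⟩ : W) ∈ irreducibleComponent w := by
      by_contra h
      exact hw (Set.mem_biUnion (x := irreducibleComponent w) ⟨hC, h⟩ mem_irreducibleComponent)
    have hg := hC.1.isGenericPoint_genericPoint_closure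
    have h1 : hC.1.genericPoint ⤳ (⟨x, hxW⟩ : W) := hg.specializes (subset_closure hxC)
    have h2 : ηW ⤳ hC.1.genericPoint :=
      (Topology.IsInducing.subtypeVal.specializes_iff).1 (hη _ (h1.map continuous_subtype_val))
    exact specializes_iff_mem_closure.1 (h2.trans (hg.specializes (subset_closure mem_irreducibleComponent)))
  have hxU : (⟨x, hxW⟩ : W) ∈ (⋃ C ∈ bad, C)ᶜ := by
    intro h
    obtain ⟨C, hC, hx'⟩ := Set.mem_iUnion₂.1 h
    exact hC.2 hx'
  refine ⟨W.ι ''ᵁ ⟨(⋃ C ∈ bad, C)ᶜ, hbad.isOpen_compl⟩, ⟨⟨x, hxW⟩, hxU, rfl⟩, ?_⟩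
  refine IsIrreducible.image ⟨⟨_, hxU⟩, ?_⟩ _ W.ι.continuous.continuousOn
  intro A B hA hB ha hb
  obtain ⟨a, haU, haA⟩ := ha
  obtain ⟨b, hbU, hbB⟩ := hb
  refine ⟨ηW, ?_, (specializes_iff_mem_closure.2 (hsub haU)).mem_open hA haA,
    (specializes_iff_mem_closure.2 (hsub hbU)).mem_open hB hbB⟩
  exact (specializes_iff_mem_closure.2 (hsub haU)).mem_open hbad.isOpen_compl haU

lemma exists_reduced_nhd (X : Scheme.{u}) [IsLocallyNoetherian X] (x : X)
    [IsReduced (X.presheaf.stalk x)] : ∃ U : X.Opens, x ∈ U ∧ IsReduced (U : Scheme.{u}) := by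
  obtain ⟨W, hW, hxW, -⟩ := exists_isAffineOpen_mem_and_subset (x := x) (U := ⊤) trivial
  have : IsNoetherianRing Γ(X, W) := IsLocallyNoetherian.component_noetherian ⟨W, hW⟩
  let := X.presheaf.algebra_section_stalk ⟨x, hxW⟩
  have := hW.isLocalization_stalk ⟨x, hxW⟩
  let p := (hW.primeIdealOf ⟨x, hxW⟩).asIdeal
  obtain ⟨S, hS⟩ := (IsNoetherian.noetherian (nilradical Γ(X, W)) : (nilradical Γ(X, W)).FG)
  have hs : ∀ a : Γ(X, W), IsNilpotent a → ∃ s ∈ p.primeCompl, s * a = 0 := by
    intro a ha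
    have : algebraMap Γ(X, W) (X.presheaf.stalk x) a = 0 :=
      (ha.map (algebraMap Γ(X, W) (X.presheaf.stalk x))).eq_zero
    obtain ⟨⟨s, hs⟩, h⟩ := (IsLocalization.map_eq_zero_iff p.primeCompl _ a).1 this
    exact ⟨s, hs, h⟩
  have hS' : ∀ a ∈ S, IsNilpotent a := fun a ha =>
    mem_nilradical.1 (hS ▸ Submodule.subset_span ha : a ∈ nilradical Γ(X, W))
  choose! t ht1 ht2 using fun a (ha : a ∈ S) => hs a (hS' a ha)
  let s := ∏ a ∈ S, t a
  have hsp : s ∈ p.primeCompl := prod_mem ht1
  have hkill : ∀ a, IsNilpotent a → s * a = 0 := by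
    intro a ha
    have ha' : a ∈ Submodule.span Γ(X, W) (S : Set Γ(X, W)) := by rw [hS]; exact ha
    induction ha' using Submodule.span_induction with
    | mem y hy =>
      obtain ⟨c, hc⟩ := Finset.dvd_prod_of_mem t hy
      rw [show s = t y * c from hc, mul_right_comm, ht2 y hy, zero_mul]
    | zero => rw [mul_zero]
    | add y z hy hz h1 h2 =>
      rw [mul_add, h1 (mem_nilradical.1 (hS ▸ hy : y ∈ nilradical _)),
        h2 (mem_nilradical.1 (hS ▸ hz : z ∈ nilradical _)), add_zero]
    | smul r y hy h1 =>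
      rw [smul_eq_mul, mul_left_comm, h1 (mem_nilradical.1 (hS ▸ hy : y ∈ nilradical _)), mul_zero]
  refine ⟨X.basicOpen s, ?_, ?_⟩
  · rw [X.mem_basicOpen s x hxW]
    exact IsLocalization.map_units (M := p.primeCompl) (X.presheaf.stalk x) ⟨s, hsp⟩
  · have : IsAffine (X.basicOpen s : Scheme.{u}) := hW.basicOpen s
    have : _root_.IsReduced Γ((X.basicOpen s : Scheme.{u}), ⊤) := by
      suffices hred : _root_.IsReduced Γ(X, X.basicOpen s) from
        isReduced_of_injective (X.basicOpen s).topIso.hom.hom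
          (ConcreteCategory.bijective_of_isIso (X.basicOpen s).topIso.hom).1
      have := hW.isLocalization_basicOpen s
      refine ⟨fun z hz => ?_⟩
      obtain ⟨⟨a, b, hb⟩, hab⟩ := IsLocalization.surj (Submonoid.powers s) z
      obtain ⟨n, rfl⟩ := hb
      have h1 : IsNilpotent (algebraMap Γ(X, W) Γ(X, X.basicOpen s) a) := hab ▸ (Commute.all _ _).isNilpotent_mul_right hz
      obtain ⟨k, hk⟩ := h1
      rw [← map_pow, IsLocalization.map_eq_zero_iff (Submonoid.powers s)] at hk
      obtain ⟨⟨_, m, rfl⟩, hm⟩ := hk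
      have h2 : IsNilpotent (s ^ (m + 1) * a) := ⟨k + 1, by
        have hm' : s ^ m * a ^ k = 0 := hm
        linear_combination (s ^ (m * k + k + 1) * a) * hm'⟩
      have h3 := hkill _ h2
      have h4 : algebraMap Γ(X, W) Γ(X, X.basicOpen s) a = 0 :=
        (IsLocalization.map_eq_zero_iff (Submonoid.powers s) _ a).2
          ⟨⟨s ^ (m + 2), ⟨m + 2, rfl⟩⟩, by rw [← h3]; ring⟩
      rw [h4] at hab
      exact (IsUnit.mul_left_eq_zero (IsLocalization.map_units _ (⟨s ^ n, ⟨n, rfl⟩⟩ : Submonoid.powers s))).1 hab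
    exact isReduced_of_isAffine_isReduced _

end Groth.Agent.Sweep9Lib
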