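import Mathlib

/-!
The universal splitting algebra of a monic polynomial is free of rank `r!`.
-/

set_option autoImplicit false
universe u

open Polynomial

namespace Groth.Agent.Sweep9Lib

variable {S : Type u} [CommRing S]

/-- The ideal forcing the tuple of variables to be the roots of `p`. -/
noncomputable def splitIdeal (r : ℕ) (p : S[X]) : Ideal (MvPolynomial (Fin r) S) :=
  Ideal.span (Set.range fun j : Fin r =>
    (∏ i : Fin r, (X - C (MvPolynomial.X i : MvPolynomial (Fin r) S))).coeff j -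
      MvPolynomial.C (p.coeff j))

/-- The universal splitting algebra. -/
abbrev SplitAlg (r : ℕ) (p : S[X]) : Type u := MvPolynomial (Fin r) S ⧸ splitIdeal r p

/-- its roots. -/
noncomputable def sroot (r : ℕ) (p : S[X]) (i : Fin r) : SplitAlg r p :=
  Ideal.Quotient.mk _ (MvPolynomial.X i)

lemma eq_of_coeff_lt {A : Type*} [CommRing A] {r : ℕ} {f g : A[X]} (hf : f.Monic) (hg : g.Monic)
    (hfd : f.natDegree = r) (hgd : g.natDegree = r) (h : ∀ j : Fin r, f.coeff j = g.coeff j) :
    f = g := by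
  ext n
  rcases lt_trichotomy n r with hn | rfl | hn
  · exact h ⟨n, hn⟩
  · have := hf.coeff_natDegree
    have := hg.coeff_natDegree
    rw [hfd] at *
    rw [hgd] at *
    simp_all
  · rw [coeff_eq_zero_of_natDegree_lt (hfd ▸ hn), coeff_eq_zero_of_natDegree_lt (hgd ▸ hn)]

lemma natDegree_roots_prod {A : Type*} [CommRing A] [Nontrivial A] {r : ℕ} (t : Fin r → A) :
    (∏ i, (X - C (t i))).natDegree = r := by
  rw [natDegree_prod_of_monic _ _ fun i _ => monic_X_sub_C _]
  simp

variable {A : Type u} [CommRing A] [Algebra S A]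

lemma aeval_coeff_roots_prod {r : ℕ} (t : Fin r → A) (j : ℕ) :
    MvPolynomial.aeval t ((∏ i : Fin r, (X - C (MvPolynomial.X i : MvPolynomial (Fin r) S))).coeff j) =
      (∏ i, (X - C (t i))).coeff j := by
  rw [← AlgHom.coe_toRingHom, ← Polynomial.coeff_map]
  simp [Polynomial.map_prod]

lemma map_eq_prod_sroot (r : ℕ) {p : S[X]} (hp : p.Monic) (hr : p.natDegree = r) :
    p.map (algebraMap S (SplitAlg r p)) = ∏ i, (X - C (sroot r p i)) := by
  rcases subsingleton_or_nontrivial (SplitAlg r p) with h | h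
  · exact Subsingleton.elim _ _
  refine eq_of_coeff_lt (r := r) (hp.map _) (monic_prod_of_monic _ _ fun i _ => monic_X_sub_C _)
    (by rw [hp.natDegree_map, hr]) (natDegree_roots_prod _) fun j => ?_
  have h1 := aeval_coeff_roots_prod (S := S) (sroot r p) j
  have h2 : (MvPolynomial.aeval (sroot r p) : MvPolynomial (Fin r) S →ₐ[S] _) =
      Ideal.Quotient.mkₐ S (splitIdeal r p) :=
    MvPolynomial.algHom_ext fun i => by simp [sroot]
  rw [Polynomial.coeff_map, ← h1, h2]
  symm
  rw [Ideal.Quotient.mkₐ_eq_mk, show algebraMap S (SplitAlg r p) (p.coeff j) =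
    Ideal.Quotient.mk _ (MvPolynomial.C (p.coeff j)) from rfl, Ideal.Quotient.eq]
  exact Ideal.subset_span ⟨j, rfl⟩

/-- maps out of the splitting algebra. -/
noncomputable def splitLift (r : ℕ) (p : S[X]) (t : Fin r → A)
    (h : p.map (algebraMap S A) = ∏ i, (X - C (t i))) : SplitAlg r p →ₐ[S] A :=
  Ideal.Quotient.liftₐ _ (MvPolynomial.aeval t) fun a ha => by
    change a ∈ RingHom.ker (MvPolynomial.aeval t : MvPolynomial (Fin r) S →ₐ[S] A)
    refine (Ideal.span_le.2 ?_ : splitIdeal r p ≤ _) ha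
    rintro _ ⟨j, rfl⟩
    rw [SetLike.mem_coe, RingHom.mem_ker, map_sub, aeval_coeff_roots_prod, ← h, MvPolynomial.aeval_C,
      Polynomial.coeff_map, sub_self]

@[simp] lemma splitLift_sroot (r : ℕ) (p : S[X]) (t : Fin r → A)
    (h : p.map (algebraMap S A) = ∏ i, (X - C (t i))) (i : Fin r) :
    splitLift r p t h (sroot r p i) = t i := by
  simp [splitLift, sroot]

lemma splitAlg_algHom_ext {r : ℕ} {p : S[X]} {f g : SplitAlg r p →ₐ[S] A}
    (h : ∀ i, f (sroot r p i) = g (sroot r p i)) : f = g := by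
  refine Ideal.Quotient.algHom_ext _ (MvPolynomial.algHom_ext fun i => ?_)
  exact h i

theorem nonempty_basis_splitAlg : ∀ (r : ℕ) {S : Type u} [CommRing S] (p : S[X]),
    p.Monic → p.natDegree = r → Nonempty (Module.Basis (Fin r.factorial) S (SplitAlg r p))
  | 0, S, _, p, _, _ => by
    let e : SplitAlg 0 p ≃ₐ[S] S :=
      ((Ideal.quotientEquivAlgOfEq S (show splitIdeal 0 p = ⊥ by simp [splitIdeal])).trans
        (AlgEquiv.quotientBot S _)).trans (MvPolynomial.isEmptyAlgEquiv S (Fin 0))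
    exact ⟨((Module.Basis.singleton (Fin 1) S).map e.symm.toLinearEquiv).reindex (finCongr Nat.factorial_zero.symm)⟩
  | r + 1, S, _, p, hp, hr => by
    rcases subsingleton_or_nontrivial S with hS | hS
    · have : Subsingleton (SplitAlg (r + 1) p) := Module.subsingleton S _
      exact ⟨Module.Basis.ofRepr
        { toFun := 0, invFun := 0, map_add' := fun _ _ => by simp, map_smul' := fun _ _ => by simp,
          left_inv := fun _ => Subsingleton.elim _ _, right_inv := fun _ => Subsingleton.elim _ _ }⟩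
    let pb := AdjoinRoot.powerBasis' hp
    let S' := AdjoinRoot p
    have : Nontrivial S' := by
      have h1 : Nonempty (Fin pb.dim) := ⟨⟨0, by rw [AdjoinRoot.powerBasis'_dim, hr]; omega⟩⟩
      exact pb.basis.repr.toEquiv.nontrivial
    let α := AdjoinRoot.root p
    let pS := p.map (algebraMap S S')
    have hroot : pS.IsRoot α := AdjoinRoot.isRoot_root p
    let q := pS /ₘ (X - C α)
    have hpq : (X - C α) * q = pS := mul_divByMonic_eq_iff_isRoot.2 hroot
    have hq : q.Monic := (monic_X_sub_C α).of_mul_monic_left (hpq ▸ hp.map _)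
    have hqd : q.natDegree = r := by
      rw [natDegree_divByMonic _ (monic_X_sub_C α), hp.natDegree_map, hr, natDegree_X_sub_C]
      omega
    obtain ⟨b⟩ := nonempty_basis_splitAlg r q hq hqd
    have hT := map_eq_prod_sroot r hq hqd
    have hP := map_eq_prod_sroot (r + 1) hp hr
    let T' := SplitAlg r q
    let T := SplitAlg (r + 1) p
    have hΦ : p.map (algebraMap S T') =
        ∏ i, (X - C ((Fin.cons (algebraMap S' T' α) (sroot r q) : Fin (r + 1) → T') i)) := by
      rw [Fin.prod_univ_succ]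
      simp only [Fin.cons_zero, Fin.cons_succ]
      rw [← hT, IsScalarTower.algebraMap_eq S S' T', ← Polynomial.map_map,
        ← show (X - C α) * q = p.map (algebraMap S S') from hpq, Polynomial.map_mul, Polynomial.map_sub,
        Polynomial.map_X, Polynomial.map_C]
    let Φ : T →ₐ[S] T' := splitLift (r + 1) p _ hΦ
    have hx0 : p.eval₂ (Algebra.ofId S T) (sroot (r + 1) p 0) = 0 := by
      change p.eval₂ (algebraMap S T) _ = 0
      rw [← Polynomial.eval_map, hP, Fin.prod_univ_succ]
      simp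
    let ι : S' →ₐ[S] T := AdjoinRoot.liftAlgHom p (Algebra.ofId S T) _ hx0
    have hια : ι α = sroot (r + 1) p 0 := AdjoinRoot.lift_root hx0
    letI : Algebra S' T := ι.toRingHom.toAlgebra
    haveI : IsScalarTower S S' T := IsScalarTower.of_algebraMap_eq fun s => (ι.commutes s).symm
    have hΨ : q.map (algebraMap S' T) = ∏ i : Fin r, (X - C (sroot (r + 1) p i.succ)) := by
      have h1 := hP
      rw [Fin.prod_univ_succ, IsScalarTower.algebraMap_eq S S' T, ← Polynomial.map_map,
        ← show (X - C α) * q = p.map (algebraMap S S') from hpq, Polynomial.map_mul, Polynomial.map_sub,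
        Polynomial.map_X, Polynomial.map_C, show algebraMap S' T α = sroot (r + 1) p 0 from hια] at h1
      exact (monic_X_sub_C _).isRegular.left h1
    let Ψ : T' →ₐ[S'] T := splitLift r q _ hΨ
    let Ψ' : T' →ₐ[S] T := Ψ.restrictScalars S
    have h12 : Ψ'.comp Φ = AlgHom.id S T := splitAlg_algHom_ext fun i => by
      rw [AlgHom.comp_apply, AlgHom.id_apply, splitLift_sroot]
      refine Fin.cases ?_ (fun j => ?_) i
      · rw [Fin.cons_zero]; exact (Ψ.commutes α).trans hια
      · rw [Fin.cons_succ]; exact splitLift_sroot _ _ _ hΨ j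
    have hΦι : Φ.comp ι = IsScalarTower.toAlgHom S S' T' := AdjoinRoot.algHom_ext (by
      rw [AlgHom.comp_apply]
      change Φ (ι α) = algebraMap S' T' α
      rw [hια, splitLift_sroot, Fin.cons_zero])
    let Φ' : T →ₐ[S'] T' :=
      { Φ.toRingHom with commutes' := fun s => AlgHom.congr_fun hΦι s }
    have h21 : Φ'.comp Ψ = AlgHom.id S' T' := splitAlg_algHom_ext fun j => by
      rw [AlgHom.comp_apply, AlgHom.id_apply, splitLift_sroot]
      change Φ (sroot (r + 1) p j.succ) = _
      rw [splitLift_sroot, Fin.cons_succ]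
    let e : T' ≃ₐ[S] T := AlgEquiv.ofAlgHom Ψ' Φ h12
      (AlgHom.ext fun x => AlgHom.congr_fun h21 x)
    let B := (pb.basis.smulTower b).map e.toLinearEquiv
    exact ⟨B.reindex (finProdFinEquiv.trans (finCongr (by
      rw [AdjoinRoot.powerBasis'_dim, hr, Nat.factorial_succ])))⟩

theorem splitIdeal_esymm (r : ℕ) (a : Fin r → S) :
    ∃ p : S[X], (Nontrivial S → p.natDegree = r) ∧ p.Monic ∧
      Ideal.span (Set.range fun i : Fin r =>
        MvPolynomial.esymm (Fin r) S ((i : ℕ) + 1) - MvPolynomial.C (a i)) = splitIdeal r p := by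
  let c : Fin r → S := fun j => (-1) ^ (r - (j : ℕ)) * a ⟨r - (j : ℕ) - 1, by omega⟩
  let p : S[X] := X ^ r + ∑ j : Fin r, C (c j) * X ^ (j : ℕ)
  have hdeg : (∑ j : Fin r, C (c j) * X ^ (j : ℕ)).degree < (r : WithBot ℕ) := by
    refine lt_of_le_of_lt (degree_sum_le _ _) ?_
    refine (Finset.sup_lt_iff (WithBot.bot_lt_coe r)).2 ?_
    exact fun j _ => lt_of_le_of_lt (degree_C_mul_X_pow_le _ _) (Nat.cast_lt.2 j.2)
  have hcoeff : ∀ j : Fin r, p.coeff j = c j := by
    intro j
    simp [p, coeff_X_pow, (Nat.ne_of_lt j.2), finsetSum_coeff, Fin.val_inj]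
  refine ⟨p, fun _ => ?_, monic_X_pow_add hdeg, ?_⟩
  · refine natDegree_eq_of_degree_eq_some ?_
    rw [degree_add_eq_left_of_degree_lt (by rw [degree_X_pow]; exact hdeg), degree_X_pow]
  have key : ∀ j : Fin r,
      (∏ i : Fin r, (X - C (MvPolynomial.X i : MvPolynomial (Fin r) S))).coeff j - MvPolynomial.C (p.coeff j) =
      (-1) ^ (r - (j : ℕ)) * (MvPolynomial.esymm (Fin r) S (r - (j : ℕ) - 1 + 1) -
        MvPolynomial.C (a ⟨r - (j : ℕ) - 1, by omega⟩)) := by
    intro j
    have hk : (j : ℕ) ≤ Multiset.card (Multiset.map (fun i => (MvPolynomial.X i : MvPolynomial (Fin r) S))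
        (Finset.univ : Finset (Fin r)).val) := by simp
    have h1 := Multiset.prod_X_sub_C_coeff _ hk
    rw [Multiset.map_map, ← MvPolynomial.esymm_eq_multiset_esymm] at h1
    simp only [Multiset.card_map, Finset.card_val, Finset.card_univ, Fintype.card_fin] at h1
    rw [Finset.prod_eq_multiset_prod]
    erw [h1]
    rw [hcoeff, show r - (j : ℕ) - 1 + 1 = r - j by have := j.2; omega]
    simp only [c, map_mul, map_pow, map_neg, map_one]
    ring
  refine le_antisymm (Ideal.span_le.2 ?_) (Ideal.span_le.2 ?_)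
  · rintro _ ⟨i, rfl⟩
    have h := key ⟨r - (i : ℕ) - 1, by omega⟩
    simp only [show r - (r - (i : ℕ) - 1) - 1 = (i : ℕ) by omega] at h
    have h2 : MvPolynomial.esymm (Fin r) S ((i : ℕ) + 1) - MvPolynomial.C (a i) =
        (-1) ^ (r - (r - (i : ℕ) - 1)) * ((∏ l : Fin r, (X - C (MvPolynomial.X l : MvPolynomial (Fin r) S))).coeff
          (r - (i : ℕ) - 1) - MvPolynomial.C (p.coeff (r - (i : ℕ) - 1))) := by
      rw [h, ← mul_assoc, ← mul_pow]; simp
    dsimp only
    rw [SetLike.mem_coe, h2]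
    exact Ideal.mul_mem_left _ _ (Ideal.subset_span ⟨⟨r - (i : ℕ) - 1, by omega⟩, rfl⟩)
  · rintro _ ⟨j, rfl⟩
    dsimp only
    rw [SetLike.mem_coe, key j]
    exact Ideal.mul_mem_left _ _ (Ideal.subset_span ⟨⟨r - (j : ℕ) - 1, by omega⟩, rfl⟩)

theorem nonempty_basis_esymm (r : ℕ) (a : Fin r → S) :
    Nonempty (Module.Basis (Fin r.factorial) S
      (MvPolynomial (Fin r) S ⧸ Ideal.span (Set.range fun i : Fin r =>
        MvPolynomial.esymm (Fin r) S ((i : ℕ) + 1) - MvPolynomial.C (a i)))) := by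
  obtain ⟨p, hd, hp, hI⟩ := splitIdeal_esymm r a
  rcases subsingleton_or_nontrivial S with hS | hS
  · have : Subsingleton (MvPolynomial (Fin r) S ⧸ Ideal.span (Set.range fun i : Fin r =>
        MvPolynomial.esymm (Fin r) S ((i : ℕ) + 1) - MvPolynomial.C (a i))) := Module.subsingleton S _
    exact ⟨Module.Basis.ofRepr
      { toFun := 0, invFun := 0, map_add' := fun _ _ => by simp, map_smul' := fun _ _ => by simp,
        left_inv := fun _ => Subsingleton.elim _ _, right_inv := fun _ => Subsingleton.elim _ _ }⟩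
  · obtain ⟨b⟩ := nonempty_basis_splitAlg r p hp (hd hS)
    exact ⟨b.map (Ideal.quotientEquivAlgOfEq S hI.symm).toLinearEquiv⟩

theorem exists_basis_over_esymm (r : ℕ) :
    ∃ b : Fin r.factorial → MvPolynomial (Fin r) S,
      Function.Bijective (fun p : Fin r.factorial → MvPolynomial (Fin r) S =>
        ∑ k : Fin r.factorial,
          (MvPolynomial.aeval (fun i : Fin r => MvPolynomial.esymm (Fin r) S ((i : ℕ) + 1))) (p k) * b k) := by
  let I : Ideal (MvPolynomial (Fin r) (MvPolynomial (Fin r) S)) := Ideal.span (Set.range fun i : Fin r =>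
    MvPolynomial.esymm (Fin r) (MvPolynomial (Fin r) S) ((i : ℕ) + 1) - MvPolynomial.C (MvPolynomial.X i))
  obtain ⟨B⟩ := nonempty_basis_esymm (S := (MvPolynomial (Fin r) S)) r (fun i => MvPolynomial.X i)
  let φ : (MvPolynomial (Fin r) S) →ₐ[S] (MvPolynomial (Fin r) S) := MvPolynomial.aeval (fun i : Fin r => MvPolynomial.esymm (Fin r) S ((i : ℕ) + 1))
  let ψ : MvPolynomial (Fin r) (MvPolynomial (Fin r) S) →+* (MvPolynomial (Fin r) S) := MvPolynomial.eval₂Hom φ.toRingHom MvPolynomial.X
  have hes : ∀ m, ψ (MvPolynomial.esymm (Fin r) (MvPolynomial (Fin r) S) m) = MvPolynomial.esymm (Fin r) S m := by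
    intro m
    simp [ψ, MvPolynomial.esymm, MvPolynomial.eval₂_prod]
  have hψI : ∀ z ∈ I, ψ z = 0 := by
    intro z hz
    refine (Ideal.span_le.2 ?_ : I ≤ RingHom.ker ψ) hz
    rintro _ ⟨i, rfl⟩
    rw [SetLike.mem_coe, RingHom.mem_ker, map_sub, hes]
    simp [ψ, φ]
  let ψ' : MvPolynomial (Fin r) (MvPolynomial (Fin r) S) ⧸ I →+* (MvPolynomial (Fin r) S) := Ideal.Quotient.lift I ψ hψI
  let χ : (MvPolynomial (Fin r) S) →+* MvPolynomial (Fin r) (MvPolynomial (Fin r) S) ⧸ I :=
    MvPolynomial.eval₂Hom (((Ideal.Quotient.mk I).comp MvPolynomial.C).comp MvPolynomial.C)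
      (fun i => Ideal.Quotient.mk I (MvPolynomial.X i))
  have h1 : ψ'.comp χ = RingHom.id (MvPolynomial (Fin r) S) := MvPolynomial.ringHom_ext
    (fun s => by simp [ψ', χ, ψ, φ]) (fun i => by simp [ψ', χ, ψ])
  have h2 : χ.comp ψ' = RingHom.id _ := by
    refine Ideal.Quotient.ringHom_ext (MvPolynomial.ringHom_ext (fun t => ?_) fun i => by simp [ψ', χ, ψ])
    have : (χ.comp φ.toRingHom) = (Ideal.Quotient.mk I).comp MvPolynomial.C := by
      refine MvPolynomial.ringHom_ext (fun s => by simp [χ, φ]) fun i => ?_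
      have h3 : χ (MvPolynomial.esymm (Fin r) S ((i : ℕ) + 1)) =
          Ideal.Quotient.mk I (MvPolynomial.esymm (Fin r) (MvPolynomial (Fin r) S) ((i : ℕ) + 1)) := by
        simp [χ, MvPolynomial.esymm, MvPolynomial.eval₂_prod]
      change χ (φ (MvPolynomial.X i)) = _
      rw [show φ (MvPolynomial.X i) = MvPolynomial.esymm (Fin r) S ((i : ℕ) + 1) from MvPolynomial.aeval_X _ i,
        h3, RingHom.comp_apply, Ideal.Quotient.eq]
      exact Ideal.subset_span ⟨i, rfl⟩
    simpa [ψ', ψ] using RingHom.congr_fun this t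
  have hbij : Function.Bijective ψ' := Function.bijective_iff_has_inverse.2
    ⟨χ, fun z => RingHom.congr_fun h2 z, fun z => RingHom.congr_fun h1 z⟩
  refine ⟨fun k => ψ' (B k), ?_⟩
  convert hbij.comp B.equivFun.symm.bijective using 1
  funext v
  rw [Function.comp_apply, B.equivFun_symm_apply, map_sum]
  refine Finset.sum_congr rfl fun k _ => ?_
  obtain ⟨z, hz⟩ := Ideal.Quotient.mk_surjective (B k)
  dsimp only
  rw [← hz]
  change φ (v k) * ψ' (Ideal.Quotient.mk I z) = ψ' (Ideal.Quotient.mk I (v k • z))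
  rw [MvPolynomial.smul_eq_C_mul]
  simp [ψ', ψ, φ]

end Groth.Agent.Sweep9Lib
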