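import Groth.Agent.Sweep9Lib.FibreDeg

/-!
Residue degrees of a finite scheme over a field.
-/

set_option autoImplicit false
universe u

open CategoryTheory Limits AlgebraicGeometry BddFib

namespace Groth.Agent.Sweep9Lib

lemma Γevaluation_surjective_and_ker {T : Scheme.{u}} [IsAffine T] [DiscreteTopology T] (x : T) :
    Function.Surjective (T.Γevaluation x) ∧
      RingHom.ker (T.Γevaluation x).hom = ((isAffineOpen_top T).primeIdealOf ⟨x, trivial⟩).asIdeal := by
  have hU := isAffineOpen_top T
  set P := (hU.primeIdealOf ⟨x, trivial⟩) with hP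
  let := T.presheaf.algebra_section_stalk (U := ⊤) ⟨x, trivial⟩
  have hloc : IsLocalization.AtPrime (T.presheaf.stalk x) P.asIdeal := hU.isLocalization_stalk ⟨x, trivial⟩
  have hmax : P.asIdeal.IsMaximal := by
    have : IsClosed ({P} : Set (PrimeSpectrum Γ(T, ⊤))) := by
      have hd : DiscreteTopology (Spec Γ(T, ⊤)) := T.isoSpec.hom.homeomorph.discreteTopology
      exact isClosed_discrete (α := Spec Γ(T, ⊤)) _
    exact (PrimeSpectrum.isClosed_singleton_iff_isMaximal P).1 this
  have hker : RingHom.ker (T.Γevaluation x).hom = P.asIdeal := by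
    ext a
    rw [RingHom.mem_ker]
    change IsLocalRing.residue _ (algebraMap Γ(T, ⊤) (T.presheaf.stalk x) a) = 0 ↔ _
    rw [IsLocalRing.residue_eq_zero_iff, IsLocalization.AtPrime.to_map_mem_maximal_iff _ P.asIdeal]
  refine ⟨fun r => ?_, hker⟩
  obtain ⟨z, rfl⟩ := T.residue_surjective x r
  obtain ⟨⟨a, s, hs⟩, rfl⟩ := IsLocalization.mk'_surjective P.asIdeal.primeCompl z
  obtain ⟨t, ht⟩ : ∃ t, s * t - 1 ∈ P.asIdeal := by
    obtain ⟨t, i, hi, h⟩ := hmax.exists_inv hs
    refine ⟨t, ?_⟩
    have : s * t - 1 = -i := by linear_combination h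
    rw [this]; exact neg_mem hi
  refine ⟨a * t, ?_⟩
  rw [← hker, RingHom.mem_ker, map_sub, map_one, map_mul, sub_eq_zero] at ht
  have hs' : IsLocalization.mk' (T.presheaf.stalk x) a ⟨s, hs⟩ * algebraMap Γ(T, ⊤) _ s =
      algebraMap Γ(T, ⊤) (T.presheaf.stalk x) a := IsLocalization.mk'_spec _ a ⟨s, hs⟩
  have := congrArg (T.residue x) hs'
  rw [map_mul] at this
  rw [map_mul, show T.Γevaluation x a = T.residue x (algebraMap Γ(T, ⊤) _ a) from rfl, ← this,
    mul_assoc, show T.residue x (algebraMap Γ(T, ⊤) _ s) = T.Γevaluation x s from rfl, ht, mul_one]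

theorem sum_residueDegree_le {K : Type u} [Field K] {T : Scheme.{u}} {p : T ⟶ Spec (CommRingCat.of K)}
    {n : ℕ} (h : FiniteOfDegLE (CommRingCat.of K) p n) :
    Finite T ∧ ∑ᶠ x : T, p.residueDegree x ≤ n := by
  obtain ⟨hfin, hdisc⟩ := fdl_finite h
  refine ⟨hfin, ?_⟩
  obtain ⟨hA, hF, hn⟩ := h
  let := secAlgebra (CommRingCat.of K) p
  have := Fintype.ofFinite T
  let e : ∀ x : T, Γ(T, ⊤) →+* T.residueField x := fun x => (T.Γevaluation x).hom
  let alg : ∀ x : T, Algebra K (T.residueField x) := fun x => ((e x).comp (algebraMap K Γ(T, ⊤))).toAlgebra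
  have hdeg : ∀ x : T, p.residueDegree x = Module.finrank K (T.residueField x) := by
    intro x
    let ι₀ : K →+* (Spec (CommRingCat.of K)).residueField (p x) :=
      ((Scheme.ΓSpecIso (CommRingCat.of K)).inv ≫ (Spec (CommRingCat.of K)).Γevaluation (p x)).hom
    have hb : Function.Bijective ι₀ := by
      refine ⟨ι₀.injective, ?_⟩
      have : DiscreteTopology (Spec (CommRingCat.of K)) := inferInstanceAs (DiscreteTopology (PrimeSpectrum K))
      exact (Γevaluation_surjective_and_ker (p x)).1.comp
        (ConcreteCategory.bijective_of_isIso (Scheme.ΓSpecIso (CommRingCat.of K)).inv).2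
    let := (p.residueFieldMap x).hom.toAlgebra
    refine Algebra.finrank_eq_of_equiv_equiv (RingEquiv.ofBijective ι₀ hb).symm (RingEquiv.refl _) ?_
    refine RingHom.ext fun r => ?_
    obtain ⟨c, rfl⟩ := (RingEquiv.ofBijective ι₀ hb).surjective r
    change e x (algebraMap K Γ(T, ⊤) ((RingEquiv.ofBijective ι₀ hb).symm (RingEquiv.ofBijective ι₀ hb c))) =
      p.residueFieldMap x (ι₀ c)
    rw [RingEquiv.symm_apply_apply]
    exact (Scheme.Γevaluation_naturality_apply p x _).symm
  let L : Γ(T, ⊤) →ₗ[K] (Π x : T, T.residueField x) :=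
    LinearMap.pi fun x => (AlgHom.mk (e x) fun c => rfl : Γ(T, ⊤) →ₐ[K] T.residueField x).toLinearMap
  have hL : Function.Surjective L := by
    intro z
    choose a ha using fun x => (Γevaluation_surjective_and_ker x).1 (z x)
    have hinj : Function.Injective fun x : T => ((isAffineOpen_top T).primeIdealOf ⟨x, trivial⟩) := by
      intro a b hab
      have := congrArg (isAffineOpen_top T).fromSpec hab
      rwa [(isAffineOpen_top T).fromSpec_primeIdealOf, (isAffineOpen_top T).fromSpec_primeIdealOf] at this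
    have hco : Pairwise fun x y : T => IsCoprime (RingHom.ker (e x)) (RingHom.ker (e y)) := by
      intro x y hxy
      rw [Ideal.isCoprime_iff_sup_eq]
      have hmx : (RingHom.ker (e x)).IsMaximal :=
        RingHom.ker_isMaximal_of_surjective _ (Γevaluation_surjective_and_ker x).1
      have hmy : (RingHom.ker (e y)).IsMaximal :=
        RingHom.ker_isMaximal_of_surjective _ (Γevaluation_surjective_and_ker y).1
      refine hmx.coprime_of_ne hmy fun h => hxy (hinj (PrimeSpectrum.ext ?_))
      rw [← (Γevaluation_surjective_and_ker x).2, ← (Γevaluation_surjective_and_ker y).2]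
      exact h
    obtain ⟨b, hb⟩ := Ideal.pi_quotient_surjective hco (fun x => Ideal.Quotient.mk _ (a x))
    refine ⟨b, funext fun x => ?_⟩
    have h3 := Ideal.Quotient.eq.1 (hb x)
    rw [RingHom.mem_ker, map_sub, sub_eq_zero] at h3
    exact h3.trans (ha x)
  rw [finsum_eq_sum_of_fintype, Finset.sum_congr rfl fun x _ => hdeg x]
  have hfinx : ∀ x : T, Module.Finite K (T.residueField x) := fun x =>
    Module.Finite.of_surjective (AlgHom.mk (e x) fun c => rfl : Γ(T, ⊤) →ₐ[K] T.residueField x).toLinearMap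
      (Γevaluation_surjective_and_ker x).1
  rw [← Module.finrank_pi_fintype]
  exact (LinearMap.finrank_le_finrank_of_surjective hL).trans hn

end Groth.Agent.Sweep9Lib
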