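import Mathlib

/-!
Spreading out from a local ring without germ injectivity: uniqueness for locally finite type
targets, existence for locally finitely presented ones.
-/

set_option autoImplicit false
universe u

open CategoryTheory AlgebraicGeometry TopologicalSpace

namespace Groth.Agent.Sweep9Lib

variable {X : Scheme.{u}}

lemma exists_affine_le {W : X.Opens} {x : X} (hx : x ∈ W) :
    ∃ V : X.Opens, x ∈ V ∧ V ≤ W ∧ IsAffineOpen V := by
  obtain ⟨_, ⟨V, hV, rfl⟩, hxV, hVW⟩ :=
    X.isBasis_affineOpens.exists_subset_of_mem_open hx W.2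
  exact ⟨V, hxV, hVW, hV⟩

lemma exists_res_eq_on_finite {ι : Type*} [Finite ι] {U : X.Opens} {x : X} (hx : x ∈ U)
    (a b : ι → Γ(X, U)) (h : ∀ i, X.presheaf.germ U x hx (a i) = X.presheaf.germ U x hx (b i)) :
    ∃ (V : X.Opens) (hV : V ≤ U), x ∈ V ∧ IsAffineOpen V ∧
      ∀ i, X.presheaf.map (homOfLE hV).op (a i) = X.presheaf.map (homOfLE hV).op (b i) := by
  have := fun i => X.presheaf.germ_eq x hx hx _ _ (h i)
  choose W hW iW iW' hEq using this
  have hmem : x ∈ interior ((⋂ i, (W i : Set X)) ∩ (U : Set X)) := by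
    rw [((isOpen_iInter_of_finite fun i => (W i).isOpen).inter U.isOpen).interior_eq]
    exact ⟨Set.mem_iInter.2 hW, hx⟩
  let W₀ : X.Opens := ⟨interior ((⋂ i, (W i : Set X)) ∩ (U : Set X)), isOpen_interior⟩
  obtain ⟨V, hxV, hVW, hV⟩ := exists_affine_le (W := W₀) hmem
  have hV0 : V ≤ U := fun y hy => (interior_subset (hVW hy)).2
  have hVi : ∀ i, V ≤ W i := fun i y hy => Set.mem_iInter.1 (interior_subset (hVW hy)).1 i
  refine ⟨V, hV0, hxV, hV, fun i => ?_⟩
  have := congrArg (X.presheaf.map (homOfLE (hVi i)).op) (hEq i)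
  rw [← CategoryTheory.comp_apply, ← CategoryTheory.comp_apply, ← Functor.map_comp,
    ← Functor.map_comp] at this
  exact this

/-- two ring maps out of a finite type algebra which agree in the stalk agree near the point. -/
lemma exists_res_eq_of_finiteType {R A : CommRingCat.{u}} (i : R ⟶ A)
    (hi : RingHom.FiniteType i.hom) {U : X.Opens} {x : X} (hx : x ∈ U) (a b : A ⟶ Γ(X, U))
    (hab : i ≫ a = i ≫ b) (h : a ≫ X.presheaf.germ U x hx = b ≫ X.presheaf.germ U x hx) :
    ∃ (V : X.Opens) (hV : V ≤ U), x ∈ V ∧ IsAffineOpen V ∧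
      a ≫ X.presheaf.map (homOfLE hV).op = b ≫ X.presheaf.map (homOfLE hV).op := by
  let := i.hom.toAlgebra
  obtain ⟨s, hs⟩ := hi
  obtain ⟨V, hV, hxV, hVa, hEq⟩ := exists_res_eq_on_finite (ι := s) hx (fun t => a t.1)
    (fun t => b t.1) (fun t => ConcreteCategory.congr_hom h t.1)
  refine ⟨V, hV, hxV, hVa, ?_⟩
  ext t
  have ht : t ∈ Algebra.adjoin R (s : Set A) := by rw [hs]; trivial
  induction ht using Algebra.adjoin_induction with
  | mem t ht => exact hEq ⟨t, ht⟩
  | algebraMap r =>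
      change (i ≫ a ≫ X.presheaf.map _) r = (i ≫ b ≫ X.presheaf.map _) r
      rw [reassoc_of% hab]
  | add y z _ _ hy hz => simp only [map_add, hy, hz]
  | mul y z _ _ hy hz => simp only [map_mul, hy, hz]

/-- a ring map from a finitely presented algebra to a stalk extends to a neighbourhood. -/
lemma exists_lift_of_finitePresentation {R A : CommRingCat.{u}} (i : R ⟶ A)
    (hi : RingHom.FinitePresentation i.hom) {U : X.Opens} {x : X} (hx : x ∈ U)
    (φ : A ⟶ X.presheaf.stalk x) (r : R ⟶ Γ(X, U))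
    (e : i ≫ φ = r ≫ X.presheaf.germ U x hx) :
    ∃ (V : X.Opens) (hxV : x ∈ V) (φ' : A ⟶ Γ(X, V)) (h : V ≤ U), IsAffineOpen V ∧
      φ = φ' ≫ X.presheaf.germ V x hxV ∧ r ≫ X.presheaf.map (homOfLE h).op = i ≫ φ' := by
  let := i.hom.toAlgebra
  obtain ⟨n, f, hf, hker⟩ := hi.out
  obtain ⟨rels, hrels⟩ := hker
  have := fun j : Fin n => X.presheaf.exists_germ_eq (φ (f (MvPolynomial.X j)))
  choose W hW s hs using this
  have hmem : x ∈ interior ((⋂ j, (W j : Set X)) ∩ (U : Set X)) := by
    rw [((isOpen_iInter_of_finite fun j => (W j).isOpen).inter U.isOpen).interior_eq]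
    exact ⟨Set.mem_iInter.2 hW, hx⟩
  let U₁ : X.Opens := ⟨interior ((⋂ j, (W j : Set X)) ∩ (U : Set X)), isOpen_interior⟩
  have h1 : U₁ ≤ U := fun y hy => (interior_subset hy).2
  have hj : ∀ j, U₁ ≤ W j := fun j y hy => Set.mem_iInter.1 (interior_subset hy).1 j
  let ψ : MvPolynomial (Fin n) R →+* Γ(X, U₁) :=
    MvPolynomial.eval₂Hom ((r ≫ X.presheaf.map (homOfLE h1).op).hom)
      (fun j => X.presheaf.map (homOfLE (hj j)).op (s j))
  have hψ : (X.presheaf.germ U₁ x hmem).hom.comp ψ = φ.hom.comp f.toRingHom := by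
    refine MvPolynomial.ringHom_ext (fun c => ?_) (fun j => ?_)
    · simp only [RingHom.comp_apply, ψ, MvPolynomial.eval₂Hom_C]
      change X.presheaf.germ U₁ x hmem (X.presheaf.map _ (r c)) = φ (f (MvPolynomial.C c))
      rw [TopCat.Presheaf.germ_res_apply, ← MvPolynomial.algebraMap_eq, AlgHom.commutes]
      exact (ConcreteCategory.congr_hom e c).symm
    · simp only [RingHom.comp_apply, ψ, MvPolynomial.eval₂Hom_X']
      change X.presheaf.germ U₁ x hmem (X.presheaf.map _ (s j)) = _
      rw [TopCat.Presheaf.germ_res_apply]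
      exact hs j
  obtain ⟨V, hV, hxV, hVa, hEq⟩ := exists_res_eq_on_finite (ι := rels) hmem
    (fun t => ψ t.1) (fun _ => 0) (fun t => by
      have ht : f t.1 = 0 := by
        have : t.1 ∈ Ideal.span (rels : Set (MvPolynomial (Fin n) R)) := Ideal.subset_span t.2
        rw [hrels] at this
        exact this
      have := RingHom.congr_fun hψ t.1
      simp only [RingHom.comp_apply] at this
      rw [map_zero]
      refine this.trans ?_
      change φ (f t.1) = 0
      rw [ht, map_zero])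
  let ψ' : MvPolynomial (Fin n) R →+* Γ(X, V) := (X.presheaf.map (homOfLE hV).op).hom.comp ψ
  have hk : RingHom.ker f.toRingHom ≤ RingHom.ker ψ' := by
    rw [← hrels, Ideal.span_le]
    intro t ht
    change ψ' t = 0
    exact (hEq ⟨t, ht⟩).trans (map_zero _)
  let φ' : A →+* Γ(X, V) := RingHom.liftOfSurjective f.toRingHom hf ⟨ψ', hk⟩
  have hφ' : φ'.comp f.toRingHom = ψ' := by
    refine RingHom.ext fun t => ?_
    exact RingHom.liftOfRightInverse_comp_apply _ _ (Function.rightInverse_surjInv hf) ⟨ψ', hk⟩ t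
  refine ⟨V, hxV, CommRingCat.ofHom φ', hV.trans h1, hVa, ?_, ?_⟩
  · ext t
    obtain ⟨t, rfl⟩ := hf t
    change φ (f t) = X.presheaf.germ V x hxV (φ' (f t))
    rw [show φ' (f t) = ψ' t from RingHom.congr_fun hφ' t]
    change _ = X.presheaf.germ V x hxV (X.presheaf.map _ (ψ t))
    rw [TopCat.Presheaf.germ_res_apply]
    exact (RingHom.congr_fun hψ t).symm
  · ext c
    change _ = φ' (i c)
    have h2 : i c = f (MvPolynomial.C c) := by
      rw [← MvPolynomial.algebraMap_eq, AlgHom.commutes]; rfl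
    rw [h2, show φ' (f (MvPolynomial.C c)) = ψ' (MvPolynomial.C c) from RingHom.congr_fun hφ' _]
    simp only [ψ', ψ, RingHom.comp_apply, MvPolynomial.eval₂Hom_C]
    exact ConcreteCategory.congr_hom (congrArg (r ≫ ·)
      (X.presheaf.map_comp (homOfLE h1).op (homOfLE hV).op)) c

end Groth.Agent.Sweep9Lib
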