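import Groth.Agent.S4364
import Groth.Agent.S10853

/-!
Spreading out an isomorphism of local rings.
-/

set_option autoImplicit false
universe u

open CategoryTheory AlgebraicGeometry TopologicalSpace

namespace Groth.Agent.Sweep9Lib

variable {X Y S : Scheme.{u}} (sX : X ⟶ S) (sY : Y ⟶ S)

lemma spread_out_unique' [LocallyOfFiniteType sY] (f g : X ⟶ Y) (hf : f ≫ sY = sX) (hg : g ≫ sY = sX)
    {x : X} (e : X.fromSpecStalk x ≫ f = X.fromSpecStalk x ≫ g) :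
    ∃ (U : X.Opens), x ∈ U ∧ U.ι ≫ f = U.ι ≫ g := by
  fapply Groth.Agent.S4364.result sX sY f g hf hg
  · simpa using congr($e (IsLocalRing.closedPoint _))
  · apply Spec.map_injective
    rw [← cancel_mono (Y.fromSpecStalk _)]
    simpa [Scheme.SpecMap_stalkSpecializes_fromSpecStalk]

lemma exists_retraction [LocallyOfFiniteType sX] {x : X} {y : Y}
    {φ : Y.presheaf.stalk y ⟶ X.presheaf.stalk x} {ψ : X.presheaf.stalk x ⟶ Y.presheaf.stalk y}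
    [IsLocalHom φ.hom] (hψφ : ψ ≫ φ = 𝟙 _) {U : X.Opens} (hxU : x ∈ U) (f : U.toScheme ⟶ Y)
    (hf : Spec.map φ ≫ Y.fromSpecStalk y = U.fromSpecStalkOfMem x hxU ≫ f) (hfS : f ≫ sY = U.ι ≫ sX)
    {V : Y.Opens} (hyV : y ∈ V) (g : V.toScheme ⟶ X)
    (hg : Spec.map ψ ≫ X.fromSpecStalk x = V.fromSpecStalkOfMem y hyV ≫ g) (hgS : g ≫ sX = V.ι ≫ sY) :
    ∃ (A : X.Opens) (hA : A ≤ U) (_ : x ∈ A) (f' : A.toScheme ⟶ V.toScheme),
      f' ≫ V.ι = X.homOfLE hA ≫ f ∧ f' ≫ g = A.ι := by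
  have hfx : f ⟨x, hxU⟩ = y := by
    have h1 := congrArg (fun q => q (IsLocalRing.closedPoint (X.presheaf.stalk x))) hf
    simp only [Scheme.Hom.comp_apply] at h1
    have h2 : U.fromSpecStalkOfMem x hxU (IsLocalRing.closedPoint _) = (⟨x, hxU⟩ : U) := by
      apply U.ι.isEmbedding.injective
      rw [← Scheme.Hom.comp_apply, Scheme.Opens.fromSpecStalkOfMem_ι, Scheme.fromSpecStalk_closedPoint]
      rfl
    rw [h2] at h1
    rw [Spec_closedPoint (f := φ), Scheme.fromSpecStalk_closedPoint] at h1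
    exact h1.symm
  let A₀ : X.Opens := U.ι ''ᵁ (f ⁻¹ᵁ V)
  have hA₀ : A₀ ≤ U := by
    rintro _ ⟨a, -, rfl⟩; exact a.2
  have hxA₀ : x ∈ A₀ := ⟨⟨x, hxU⟩, by change f _ ∈ V; rw [hfx]; exact hyV, rfl⟩
  have hrange : Set.range (X.homOfLE hA₀ ≫ f) ⊆ Set.range V.ι := by
    rintro _ ⟨⟨_, a, ha, rfl⟩, rfl⟩
    rw [Scheme.Opens.range_ι, Scheme.Hom.comp_apply]
    have h0 : X.homOfLE hA₀ ⟨_, a, ha, rfl⟩ = a := Subtype.ext (Scheme.homOfLE_apply hA₀ _)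
    rw [h0]
    exact ha
  let f₀ := IsOpenImmersion.lift V.ι _ hrange
  have hf₀ : f₀ ≫ V.ι = X.homOfLE hA₀ ≫ f := IsOpenImmersion.lift_fac _ _ _
  have hS : (f₀ ≫ g) ≫ sX = A₀.ι ≫ sX := by
    rw [Category.assoc, hgS, reassoc_of% hf₀, hfS, Scheme.homOfLE_ι_assoc]
  have hmem : A₀.fromSpecStalkOfMem x hxA₀ ≫ X.homOfLE hA₀ = U.fromSpecStalkOfMem x hxU := by
    rw [← cancel_mono U.ι, Category.assoc, Scheme.homOfLE_ι, Scheme.Opens.fromSpecStalkOfMem_ι,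
      Scheme.Opens.fromSpecStalkOfMem_ι]
  have hs : A₀.fromSpecStalkOfMem x hxA₀ ≫ f₀ = Spec.map φ ≫ V.fromSpecStalkOfMem y hyV := by
    rw [← cancel_mono V.ι, Category.assoc, Category.assoc, hf₀, Scheme.Opens.fromSpecStalkOfMem_ι,
      reassoc_of% hmem, hf]
  have heq : A₀.fromSpecStalkOfMem x hxA₀ ≫ f₀ ≫ g = A₀.fromSpecStalkOfMem x hxA₀ ≫ A₀.ι := by
    rw [reassoc_of% hs, ← hg, ← Spec.map_comp_assoc, hψφ, Spec.map_id, Category.id_comp,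
      Scheme.Opens.fromSpecStalkOfMem_ι]
  rw [Scheme.Opens.fromSpecStalkOfMem, Category.assoc, Category.assoc, cancel_epi] at heq
  obtain ⟨A₁, hxA₁, hA₁⟩ := spread_out_unique' (A₀.ι ≫ sX) sX (f₀ ≫ g) A₀.ι hS rfl (x := ⟨x, hxA₀⟩) heq
  have hle : A₀.ι ''ᵁ A₁ ≤ A₀ := by
    rintro _ ⟨a, -, rfl⟩; exact a.2
  let i : (A₀.ι ''ᵁ A₁).toScheme ≅ A₁.toScheme := (A₀.ι.isoImage A₁).symm
  have hi : i.hom ≫ A₁.ι = X.homOfLE hle := by
    rw [← cancel_mono A₀.ι, Scheme.homOfLE_ι, Category.assoc]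
    exact (Iso.inv_comp_eq _).2 (Scheme.Hom.isoImage_hom_ι _ _).symm
  refine ⟨_, hle.trans hA₀, ⟨_, hxA₁, rfl⟩, X.homOfLE hle ≫ f₀, ?_, ?_⟩
  · rw [Category.assoc, hf₀, ← Category.assoc, Scheme.homOfLE_homOfLE]
  · rw [← hi, Category.assoc, Category.assoc, hA₁, ← Category.assoc, hi, Scheme.homOfLE_ι]

lemma spread_out_iso [LocallyOfFinitePresentation sX] [LocallyOfFinitePresentation sY]
    {x : X} {y : Y} (e : sX x = sY y)
    (φ : Y.presheaf.stalk y ⟶ X.presheaf.stalk x) [IsIso φ]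
    (h : sY.stalkMap y ≫ φ =
      S.presheaf.stalkSpecializes (Inseparable.of_eq e).specializes ≫ sX.stalkMap x) :
    ∃ (U : X.Opens) (hxU : x ∈ U) (V : Y.Opens) (f : U.toScheme ⟶ V.toScheme), IsIso f ∧
      Spec.map φ ≫ Y.fromSpecStalk y = U.fromSpecStalkOfMem x hxU ≫ f ≫ V.ι ∧
        f ≫ V.ι ≫ sY = U.ι ≫ sX := by
  have h' : sX.stalkMap x ≫ inv φ =
      S.presheaf.stalkSpecializes (Inseparable.of_eq e.symm).specializes ≫ sY.stalkMap y := by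
    rw [IsIso.comp_inv_eq, Category.assoc, h, ← Category.assoc, TopCat.Presheaf.stalkSpecializes_comp]
    simp
  obtain ⟨U, hxU, f, hf, hfS⟩ := Groth.Agent.S10853.result sX sY e φ h
  obtain ⟨V, hyV, g, hg, hgS⟩ := Groth.Agent.S10853.result sY sX e.symm (inv φ) h'
  obtain ⟨A, hA, hxA, p, hp, hpg⟩ := exists_retraction sX sY (IsIso.inv_hom_id φ) hxU f hf hfS hyV g hg hgS
  obtain ⟨B, hB, hyB, q, hq, hqf⟩ := exists_retraction sY sX (IsIso.hom_inv_id φ) hyV g hg hgS hxU f hf hfS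
  have hpA : ∀ a, V.ι (p a) = f (X.homOfLE hA a) := fun a => by
    rw [← Scheme.Hom.comp_apply, hp, Scheme.Hom.comp_apply]
  have hqB : ∀ b, U.ι (q b) = g (Y.homOfLE hB b) := fun b => by
    rw [← Scheme.Hom.comp_apply, hq, Scheme.Hom.comp_apply]
  let A₂ : X.Opens := A.ι ''ᵁ ((p ≫ V.ι) ⁻¹ᵁ B)
  let B₂ : Y.Opens := B.ι ''ᵁ ((q ≫ U.ι) ⁻¹ᵁ A)
  have hA₂ : A₂ ≤ A := by
    rintro _ ⟨a, -, rfl⟩; exact a.2
  have hB₂ : B₂ ≤ B := by
    rintro _ ⟨b, -, rfl⟩; exact b.2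
  have hr1 : Set.range (X.homOfLE hA₂ ≫ p ≫ V.ι) ⊆ Set.range B₂.ι := by
    rintro _ ⟨⟨_, a, ha, rfl⟩, rfl⟩
    have h0 : X.homOfLE hA₂ ⟨_, a, ha, rfl⟩ = a := Subtype.ext (Scheme.homOfLE_apply hA₂ _)
    rw [Scheme.Opens.range_ι, Scheme.Hom.comp_apply, h0]
    refine ⟨⟨_, ha⟩, ?_, rfl⟩
    change U.ι (q ⟨_, ha⟩) ∈ A
    rw [hqB, show Y.homOfLE hB ⟨_, ha⟩ = p a from Subtype.ext (Scheme.homOfLE_apply hB _),
      ← Scheme.Hom.comp_apply, hpg]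
    exact a.2
  have hr2 : Set.range (Y.homOfLE hB₂ ≫ q ≫ U.ι) ⊆ Set.range A₂.ι := by
    rintro _ ⟨⟨_, b, hb, rfl⟩, rfl⟩
    have h0 : Y.homOfLE hB₂ ⟨_, b, hb, rfl⟩ = b := Subtype.ext (Scheme.homOfLE_apply hB₂ _)
    rw [Scheme.Opens.range_ι, Scheme.Hom.comp_apply, h0]
    refine ⟨⟨_, hb⟩, ?_, rfl⟩
    change V.ι (p ⟨_, hb⟩) ∈ B
    rw [hpA, show X.homOfLE hA ⟨_, hb⟩ = q b from Subtype.ext (Scheme.homOfLE_apply hA _),
      ← Scheme.Hom.comp_apply, hqf]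
    exact b.2
  let P := IsOpenImmersion.lift B₂.ι _ hr1
  let Q := IsOpenImmersion.lift A₂.ι _ hr2
  have hP : P ≫ B₂.ι = X.homOfLE hA₂ ≫ p ≫ V.ι := IsOpenImmersion.lift_fac _ _ _
  have hQ : Q ≫ A₂.ι = Y.homOfLE hB₂ ≫ q ≫ U.ι := IsOpenImmersion.lift_fac _ _ _
  have hPV : P ≫ Y.homOfLE (hB₂.trans hB) = X.homOfLE hA₂ ≫ p := by
    rw [← cancel_mono V.ι, Category.assoc, Scheme.homOfLE_ι, hP, Category.assoc]
  have hQU : Q ≫ X.homOfLE (hA₂.trans hA) = Y.homOfLE hB₂ ≫ q := by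
    rw [← cancel_mono U.ι, Category.assoc, Scheme.homOfLE_ι, hQ, Category.assoc]
  have hfS' : (p ≫ V.ι) ≫ sY = A.ι ≫ sX := by
    rw [hp, Category.assoc, hfS, Scheme.homOfLE_ι_assoc]
  have h1 : P ≫ Q = 𝟙 _ := by
    rw [← cancel_mono A₂.ι, Category.assoc, hQ, Category.id_comp, hq, ← Category.assoc (Y.homOfLE hB₂),
      Scheme.homOfLE_homOfLE, reassoc_of% hPV, hpg, Scheme.homOfLE_ι]
  have h2 : Q ≫ P = 𝟙 _ := by
    rw [← cancel_mono B₂.ι, Category.assoc, hP, Category.id_comp, hp, ← Category.assoc (X.homOfLE hA₂),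
      Scheme.homOfLE_homOfLE, reassoc_of% hQU, hqf, Scheme.homOfLE_ι]
  have hxA₂ : x ∈ A₂ := by
    refine ⟨⟨x, hxA⟩, ?_, rfl⟩
    change V.ι (p ⟨x, hxA⟩) ∈ B
    have h3 := congrArg (fun r => r (IsLocalRing.closedPoint (X.presheaf.stalk x))) hf
    simp only [Scheme.Hom.comp_apply] at h3
    rw [hpA]
    have h4 : U.fromSpecStalkOfMem x hxU (IsLocalRing.closedPoint _) = X.homOfLE hA ⟨x, hxA⟩ := by
      apply U.ι.isEmbedding.injective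
      rw [← Scheme.Hom.comp_apply, Scheme.Opens.fromSpecStalkOfMem_ι, Scheme.fromSpecStalk_closedPoint,
        ← Scheme.Hom.comp_apply, Scheme.homOfLE_ι]
      rfl
    rw [← h4, ← h3, Spec_closedPoint (f := φ), Scheme.fromSpecStalk_closedPoint]
    exact hyB
  refine ⟨A₂, hxA₂, B₂, P, ⟨Q, h1, h2⟩, ?_, ?_⟩
  · rw [hP, hf, hp]
    rw [← Category.assoc (X.homOfLE hA₂), Scheme.homOfLE_homOfLE, ← Category.assoc]
    congr 1
    rw [← cancel_mono U.ι, Category.assoc, Scheme.homOfLE_ι, Scheme.Opens.fromSpecStalkOfMem_ι,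
      Scheme.Opens.fromSpecStalkOfMem_ι]
  · rw [reassoc_of% hP, ← Category.assoc p, hfS', Scheme.homOfLE_ι_assoc]

end Groth.Agent.Sweep9Lib
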