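import Mathlib

/-!
Common complements of subspaces of equal dimension.
-/

set_option autoImplicit false
universe u v

namespace Groth.Agent.Sweep9Lib

variable {k : Type u} {V : Type v} [Field k] [AddCommGroup V] [Module k V] [FiniteDimensional k V]

theorem exists_common_isCompl :
    ∀ (d : ℕ) (P Q : Submodule k V), Module.finrank k P + d = Module.finrank k V →
      Module.finrank k Q = Module.finrank k P → ∃ C : Submodule k V, IsCompl P C ∧ IsCompl Q C
  | 0, P, Q, hP, hQ => by
    have hP' : P = ⊤ := Submodule.eq_top_of_finrank_eq (by omega)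
    have hQ' : Q = ⊤ := Submodule.eq_top_of_finrank_eq (by omega)
    exact ⟨⊥, by rw [hP']; exact isCompl_top_bot, by rw [hQ']; exact isCompl_top_bot⟩
  | d + 1, P, Q, hP, hQ => by
    obtain ⟨v, hvP, hvQ⟩ : ∃ v, v ∉ P ∧ v ∉ Q := by
      obtain ⟨a, ha⟩ : ∃ a, a ∉ P := by
        by_contra h
        push_neg at h
        rw [(Submodule.eq_top_iff'.2 h), finrank_top] at hP
        omega
      obtain ⟨b, hb⟩ : ∃ b, b ∉ Q := by
        by_contra h
        push_neg at h
        rw [(Submodule.eq_top_iff'.2 h), finrank_top] at hQ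
        omega
      by_cases haQ : a ∈ Q
      · by_cases hbP : b ∈ P
        · exact ⟨a + b, fun h => ha ((Submodule.add_mem_iff_left _ hbP).1 h),
            fun h => hb ((Submodule.add_mem_iff_right _ haQ).1 h)⟩
        · exact ⟨b, hbP, hb⟩
      · exact ⟨a, ha, haQ⟩
    have key : ∀ R : Submodule k V, v ∉ R →
        Module.finrank k ↥(R ⊔ k ∙ v) = Module.finrank k R + 1 ∧ Disjoint R (k ∙ v) := by
      intro R hR
      have hd : Disjoint R (k ∙ v) := by
        rw [Submodule.disjoint_span_singleton]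
        exact fun h => absurd h hR
      refine ⟨?_, hd⟩
      have := Submodule.finrank_sup_add_finrank_inf_eq R (k ∙ v)
      rw [hd.eq_bot, finrank_bot, finrank_span_singleton (K := k) (v := v) (fun h0 => hR (h0 ▸ R.zero_mem))] at this
      omega
    obtain ⟨hP1, hP2⟩ := key P hvP
    obtain ⟨hQ1, hQ2⟩ := key Q hvQ
    obtain ⟨C, hC1, hC2⟩ := exists_common_isCompl d (P ⊔ k ∙ v) (Q ⊔ k ∙ v)
      (by rw [hP1]; omega) (by rw [hQ1, hP1, hQ])
    refine ⟨(k ∙ v) ⊔ C, ⟨?_, ?_⟩, ⟨?_, ?_⟩⟩
    · exact hP2.disjoint_sup_right_of_disjoint_sup_left hC1.disjoint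
    · rw [codisjoint_iff, ← sup_assoc]; exact hC1.codisjoint.eq_top
    · exact hQ2.disjoint_sup_right_of_disjoint_sup_left hC2.disjoint
    · rw [codisjoint_iff, ← sup_assoc]; exact hC2.codisjoint.eq_top

end Groth.Agent.Sweep9Lib
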