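import Groth.Agent.Sweep9Lib.FibreDeg
import Groth.Prelude.Def_Mor2

/-!
Examples and operations on morphisms with bounded fibre degree.
-/

set_option autoImplicit false
universe u

open CategoryTheory Limits AlgebraicGeometry TensorProduct BddFib

namespace Groth.Agent.Sweep9Lib

variable {X Y Z : Scheme.{u}}

theorem fibreDeg_immersion (f : X ⟶ Y) [IsImmersion f] : FibreDegLE f 1 := by
  rw [fibreDeg_iff]
  intro k _ g
  let p := pullback.snd f g
  have : IsClosedImmersion p := .of_isPreimmersion _ (by
    have : DiscreteTopology (Spec (CommRingCat.of k)) := inferInstanceAs (DiscreteTopology (PrimeSpectrum k))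
    exact isClosed_discrete _)
  obtain ⟨I, e, he⟩ := (IsClosedImmersion.Spec_iff (f := p)).1 this
  refine fdl_iff.2 ⟨k ⧸ I, inferInstance, inferInstance, e.hom, inferInstance, he.symm, inferInstance, ?_⟩
  refine (LinearMap.finrank_le_finrank_of_surjective (f := (Ideal.Quotient.mkₐ k I).toLinearMap)
    Ideal.Quotient.mk_surjective).trans ?_
  rw [Module.finrank_self]

theorem fibreDeg_finLocFree (f : X ⟶ Y) (d : ℕ) (hf : Mor2.IsFinLocFreeOfDeg d f) : FibreDegLE f d := by
  obtain ⟨⟨hfin, hfl, -⟩, hd⟩ := hf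
  rw [fibreDeg_iff]
  intro k _ g
  let p := pullback.snd f g
  have : IsAffine (pullback f g) := isAffine_of_isAffineHom p
  obtain ⟨A, _, _, e, he, he'⟩ := exists_specAlg p
  have h1 : IsFinite (specAlg k A) := by
    rw [← (MorphismProperty.cancel_left_of_respectsIso @IsFinite e _), he']
    infer_instance
  have h2 : Module.Finite k A := by
    rw [← RingHom.finite_algebraMap]
    exact (IsFinite.SpecMap_iff _).1 h1
  refine fdl_iff.2 ⟨A, _, _, e, he, he', h2, le_of_eq ?_⟩
  have h3 : Scheme.Hom.finrank (specAlg k A) (IsLocalRing.closedPoint k) = d := by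
    have : Flat (specAlg k A) := by
      rw [Flat.SpecMap_iff]; exact RingHom.flat_algebraMap_iff.2 inferInstance
    rw [← Scheme.Hom.finrank_comp_left_of_isIso e (specAlg k A), he', Scheme.Hom.finrank_pullback_snd]
    exact hd _
  rw [Scheme.Hom.finrank_SpecMap_algebraMap] at h3
  rw [← h3, Module.rankAtStalk_eq_finrank_of_free]
  rfl

/-- an algebra over a finite dimensional algebra whose fibres have bounded dimension. -/
theorem finrank_le_mul_of_quotient {K A B : Type u} [Field K] [CommRing A] [CommRing B] [Algebra K A]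
    [Algebra K B] [Algebra A B] [IsScalarTower K A B] [Module.Finite K A] {n : ℕ}
    (h : ∀ m : MaximalSpectrum A, ∃ v : Fin n → B,
      ∀ b : B, b ∈ Submodule.span A (Set.range v) ⊔ m.asIdeal • (⊤ : Submodule A B)) :
    Module.Finite K B ∧ Module.finrank K B ≤ n * Module.finrank K A := by
  classical
  have : IsArtinianRing A := IsArtinianRing.of_finite K A
  have := Fintype.ofFinite (MaximalSpectrum A)
  choose v hv using h
  have hco : Pairwise fun i j : MaximalSpectrum A => IsCoprime i.asIdeal j.asIdeal :=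
    fun i j hij => Ideal.isCoprime_of_isMaximal fun h => hij (MaximalSpectrum.ext h)
  have hδ : ∀ m : MaximalSpectrum A, ∃ a : A, ∀ m' : MaximalSpectrum A,
      Ideal.Quotient.mk m'.asIdeal a = if m' = m then 1 else 0 := fun m =>
    Ideal.pi_quotient_surjective (I := fun m : MaximalSpectrum A => m.asIdeal) hco
      (fun m' => if m' = m then 1 else 0)
  choose δ hδ using hδ
  let w : Fin n → B := fun j => ∑ m, δ m • v m j
  let N : Submodule A B := Submodule.span A (Set.range w)
  have hw : ∀ m : MaximalSpectrum A, (⊤ : Submodule A B) ≤ N ⊔ m.asIdeal • ⊤ := by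
    intro m b _
    suffices hs : Submodule.span A (Set.range (v m)) ≤ N ⊔ m.asIdeal • ⊤ from
      sup_le hs le_sup_right (hv m b)
    rw [Submodule.span_le]
    rintro _ ⟨j, rfl⟩
    have hdiff : w j - v m j ∈ m.asIdeal • (⊤ : Submodule A B) := by
      have : w j - v m j = (δ m - 1) • v m j + ∑ m' ∈ Finset.univ.erase m, δ m' • v m' j := by
        simp only [w]
        rw [← Finset.add_sum_erase _ _ (Finset.mem_univ m), sub_smul, one_smul]
        abel
      rw [this]
      refine Submodule.add_mem _ (Submodule.smul_mem_smul ?_ trivial)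
        (Submodule.sum_mem _ fun m' hm' => Submodule.smul_mem_smul ?_ trivial)
      · rw [← Ideal.Quotient.eq_zero_iff_mem, map_sub, map_one, hδ, if_pos rfl, sub_self]
      · rw [← Ideal.Quotient.eq_zero_iff_mem, hδ, if_neg (Finset.ne_of_mem_erase hm').symm]
    have hmem : v m j = w j - (w j - v m j) := by abel
    rw [hmem]
    exact Submodule.sub_mem _ (Submodule.mem_sup_left (Submodule.subset_span ⟨j, rfl⟩))
      (Submodule.mem_sup_right hdiff)
  let Q : Ideal A → Prop := fun I => (⊤ : Submodule A B) ≤ N ⊔ I • ⊤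
  have hmul : ∀ I J, Q I → Q J → Q (I * J) := by
    intro I J hI hJ
    refine hI.trans (sup_le le_sup_left ?_)
    calc I • (⊤ : Submodule A B) ≤ I • (N ⊔ J • ⊤) := Submodule.smul_mono le_rfl hJ
      _ = I • N ⊔ I • (J • ⊤) := Submodule.smul_sup _ _ _
      _ ≤ N ⊔ (I * J) • ⊤ := sup_le (Submodule.smul_le_right.trans le_sup_left)
            (by rw [← Submodule.mul_smul]; exact le_sup_right)
  have h1 : Q 1 := le_sup_of_le_right (by rw [Ideal.one_eq_top, Submodule.top_smul])
  have hprod : Q (∏ m : MaximalSpectrum A, m.asIdeal) :=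
    Finset.prod_induction _ Q hmul h1 fun m _ => hw m
  have hpow : ∀ e : ℕ, Q ((∏ m : MaximalSpectrum A, m.asIdeal) ^ e) := by
    intro e
    induction e with
    | zero => rw [pow_zero]; exact h1
    | succ e ih => rw [pow_succ]; exact hmul _ _ ih hprod
  obtain ⟨e, he⟩ := IsArtinianRing.isNilpotent_jacobson_bot (R := A)
  have hle : (∏ m : MaximalSpectrum A, m.asIdeal) ≤ Ideal.jacobson (⊥ : Ideal A) := by
    refine le_sInf ?_
    rintro M ⟨-, hM⟩
    exact Ideal.prod_le_inf.trans (Finset.inf_le (f := fun m : MaximalSpectrum A => m.asIdeal)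
      (Finset.mem_univ ⟨M, hM⟩))
  have hN : N = ⊤ := top_le_iff.1 <| (hpow e).trans <| sup_le le_rfl <| by
    refine (Submodule.smul_mono_left ((Ideal.pow_right_mono hle e).trans he.le)).trans ?_
    simp
  let g : (Fin n → A) →ₗ[A] B := Fintype.linearCombination A w
  have hg : Function.Surjective g := by
    rw [← LinearMap.range_eq_top, Fintype.range_linearCombination]
    exact hN
  refine ⟨Module.Finite.of_surjective (g.restrictScalars K) hg, ?_⟩
  refine (LinearMap.finrank_le_finrank_of_surjective (f := g.restrictScalars K) hg).trans ?_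
  rw [Module.finrank_pi_fintype, Finset.sum_const, Finset.card_univ, Fintype.card_fin, smul_eq_mul]

theorem fdl_comp {K : Type u} [Field K] {T U : Scheme.{u}} (q : T ⟶ U) (p : U ⟶ Spec (CommRingCat.of K))
    {n m : ℕ} (hq : FibreDegLE q n) (hp : FiniteOfDegLE (CommRingCat.of K) p m) :
    FiniteOfDegLE (CommRingCat.of K) (q ≫ p) (n * m) := by
  obtain ⟨hUf, hUd⟩ := fdl_finite hp
  have hfib : ∀ u : U, Finite (q.fiber u) ∧ DiscreteTopology (q.fiber u) := fun u => fdl_finite (hq u)
  have hTf : Finite T := by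
    have : (Set.univ : Set T).Finite := by
      have : (Set.univ : Set T) = ⋃ u : U, Set.range (q.fiberι u) := by
        refine Set.eq_of_subset_of_subset (fun x _ => Set.mem_iUnion.2 ⟨q x, ?_⟩) (fun _ _ => trivial)
        rw [q.range_fiberι]; rfl
      rw [this]
      exact Set.finite_iUnion fun u => (have := (hfib u).1; Set.finite_range _)
    exact Set.finite_univ_iff.1 this
  have hTd : DiscreteTopology T := by
    refine discreteTopology_iff_isOpen_singleton.2 fun x => ?_
    have := (hfib (q x)).2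
    obtain ⟨z, hz⟩ : x ∈ Set.range (q.fiberι (q x)) := by rw [q.range_fiberι]; rfl
    obtain ⟨O, hO, hOz⟩ := (q.fiberι (q x)).isEmbedding.isInducing.isOpen_iff.1 (isOpen_discrete {z})
    have : ({x} : Set T) = O ∩ q ⁻¹' {q x} := by
      refine Set.eq_of_subset_of_subset ?_ ?_
      · intro w hw
        rw [Set.mem_singleton_iff] at hw
        rw [hw]
        exact ⟨hz ▸ (show z ∈ q.fiberι (q x) ⁻¹' O by rw [hOz]; rfl), rfl⟩
      · rintro x' ⟨hx'O, hx'⟩
        obtain ⟨z', rfl⟩ : x' ∈ Set.range (q.fiberι (q x)) := by rw [q.range_fiberι]; exact hx'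
        have hz' : z' ∈ q.fiberι (q x) ⁻¹' O := hx'O
        rw [hOz] at hz'
        rw [Set.mem_singleton_iff.1 hz', hz]; rfl
    rw [this]
    exact hO.inter ((isOpen_discrete _).preimage q.continuous)
  have : IsAffine T := inferInstance
  obtain ⟨A, _, _, e, he, he', hA, hm⟩ := fdl_iff.1 hp
  obtain ⟨ψ, hψ⟩ : ∃ ψ, Spec.map ψ = T.isoSpec.inv ≫ q ≫ e := ⟨_, Spec.map_preimage _⟩
  let B := Γ(T, ⊤)
  let := ψ.hom.toAlgebra
  let : Algebra K B := ((algebraMap A B).comp (algebraMap K A)).toAlgebra
  have : IsScalarTower K A B := IsScalarTower.of_algebraMap_eq fun _ => rfl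
  have hq' : FibreDegLE (specAlg A B) n :=
    fibreDeg_of_isPullback q (inv e) (specAlg A B) T.isoSpec.inv
      (IsPullback.of_horiz_isIso ⟨by
        change T.isoSpec.inv ≫ q = Spec.map ψ ≫ inv e
        rw [hψ, Category.assoc, Category.assoc, IsIso.hom_inv_id, Category.comp_id]⟩) n hq
  have key : ∀ M : MaximalSpectrum A, ∃ v : Fin n → B,
      ∀ b : B, b ∈ Submodule.span A (Set.range v) ⊔ M.asIdeal • (⊤ : Submodule A B) := by
    intro M
    have := M.isMaximal
    let := Ideal.Quotient.field M.asIdeal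
    let C := A ⧸ M.asIdeal
    have h1 := (fibreDeg_iff _ _).1 hq' C (specAlg A C)
    have h2 : FiniteOfDegLE (CommRingCat.of C) (specAlg C (C ⊗[A] B)) n :=
      fdl_of_iso ((pullbackSpecIso A C B).inv ≫ (pullbackSymmetry _ _).hom) (by
        rw [Category.assoc, pullbackSymmetry_hom_comp_snd]
        exact pullbackSpecIso_inv_fst' A C B) h1
    obtain ⟨hf, hn⟩ := fdl_spec_iff.1 h2
    let b := Module.finBasis C (C ⊗[A] B)
    let π : B →ₗ[A] C ⊗[A] B := TensorProduct.mk A C B 1
    have hπ : Function.Surjective π := fun z => by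
      induction z using TensorProduct.induction_on with
      | zero => exact ⟨0, map_zero _⟩
      | tmul c b =>
        obtain ⟨a, rfl⟩ := Ideal.Quotient.mk_surjective c
        refine ⟨a • b, ?_⟩
        change (1 : C) ⊗ₜ[A] (a • b) = _
        rw [← TensorProduct.smul_tmul, Algebra.smul_def, mul_one]; rfl
      | add z z' hz hz' =>
        obtain ⟨a, rfl⟩ := hz; obtain ⟨a', rfl⟩ := hz'
        exact ⟨a + a', map_add _ _ _⟩
    choose s hs using fun i => hπ (b i)
    let v : Fin n → B := fun j => if hj : j.1 < Module.finrank C (C ⊗[A] B) then s ⟨j.1, hj⟩ else 0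
    refine ⟨v, fun x => ?_⟩
    choose a ha using fun i => Ideal.Quotient.mk_surjective (b.repr (π x) i)
    have hker : LinearMap.ker π ≤ M.asIdeal • (⊤ : Submodule A B) := by
      intro y hy
      have h3 := congrArg (TensorProduct.quotTensorEquivQuotSMul B M.asIdeal) (LinearMap.mem_ker.1 hy)
      rw [map_zero] at h3
      change TensorProduct.quotTensorEquivQuotSMul B M.asIdeal ((1 : C) ⊗ₜ[A] y) = 0 at h3
      rw [← map_one (Ideal.Quotient.mk M.asIdeal), TensorProduct.quotTensorEquivQuotSMul_mk_tmul, one_smul] at h3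
      exact (Submodule.Quotient.mk_eq_zero _).1 h3
    have hx : π (x - ∑ i, a i • s i) = 0 := by
      rw [map_sub, map_sum, sub_eq_zero]
      conv_lhs => rw [← b.sum_repr (π x)]
      refine Finset.sum_congr rfl fun i _ => ?_
      rw [map_smul, hs, ← ha i]
      exact (algebraMap_smul C (a i) (b i))
    refine Submodule.mem_sup.2 ⟨∑ i, a i • s i, Submodule.sum_mem _ fun i _ =>
      Submodule.smul_mem _ _ (Submodule.subset_span ⟨⟨i.1, i.2.trans_le hn⟩, dif_pos i.2⟩), _, hker hx, ?_⟩
    abel
  obtain ⟨hB, hB'⟩ := finrank_le_mul_of_quotient (K := K) key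
  refine fdl_iff.2 ⟨B, inferInstance, inferInstance, T.isoSpec.hom, inferInstance, ?_, hB,
    hB'.trans (Nat.mul_le_mul_left n hm)⟩
  rw [← he', show specAlg K B = Spec.map ψ ≫ specAlg K A from Spec.map_comp (CommRingCat.ofHom (algebraMap K A)) ψ,
    hψ]
  simp

theorem fibreDeg_comp (f : X ⟶ Y) (g : Y ⟶ Z) (n m : ℕ) (hf : FibreDegLE f n) (hg : FibreDegLE g m) :
    FibreDegLE (f ≫ g) (n * m) := by
  rw [fibreDeg_iff]
  intro k _ γ
  let q : pullback (f ≫ g) γ ⟶ pullback g γ :=
    pullback.map _ _ _ _ f (𝟙 _) (𝟙 _) (by simp) (by simp)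
  have hqsnd : q ≫ pullback.snd g γ = pullback.snd (f ≫ g) γ :=
    (pullback.lift_snd _ _ _).trans (Category.comp_id _)
  have hsq : IsPullback (pullback.fst (f ≫ g) γ) q f (pullback.fst g γ) := by
    refine IsPullback.of_bot ?_ (pullback.lift_fst _ _ _).symm (IsPullback.of_hasPullback g γ)
    rw [hqsnd]
    exact IsPullback.of_hasPullback (f ≫ g) γ
  have h := fdl_comp q (pullback.snd g γ) (fibreDeg_of_isPullback f _ q _ hsq n hf)
    ((fibreDeg_iff g m).1 hg k γ)
  rwa [hqsnd] at h

theorem fibreDeg_of_flat_surjective (f : X ⟶ Y) (h : Y ⟶ Z) [Flat f] [Surjective f]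
    (n : ℕ) (hg : FibreDegLE (f ≫ h) n) : FibreDegLE h n := by
  rw [fibreDeg_iff] at hg ⊢
  intro k _ γ
  let q : pullback (f ≫ h) γ ⟶ pullback h γ :=
    pullback.map _ _ _ _ f (𝟙 _) (𝟙 _) (by simp) (by simp)
  have hqsnd : q ≫ pullback.snd h γ = pullback.snd (f ≫ h) γ :=
    (pullback.lift_snd _ _ _).trans (Category.comp_id _)
  have hsq : IsPullback (pullback.fst (f ≫ h) γ) q f (pullback.fst h γ) := by
    refine IsPullback.of_bot ?_ (pullback.lift_fst _ _ _).symm (IsPullback.of_hasPullback h γ)
    rw [hqsnd]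
    exact IsPullback.of_hasPullback (f ≫ h) γ
  have : Flat q := MorphismProperty.of_isPullback hsq ‹_›
  have : Surjective q := MorphismProperty.of_isPullback hsq ‹_›
  have hT := hg k γ
  obtain ⟨hfin, hdisc⟩ := fdl_finite hT
  have : QuasiCompact q := ⟨fun _ _ _ => (Set.toFinite _).isCompact⟩
  have : Finite (pullback h γ : Scheme.{u}) := Finite.of_surjective q q.surjective
  have : DiscreteTopology (pullback h γ : Scheme.{u}) :=
    discreteTopology_iff_forall_isOpen.2 fun s =>
      (Flat.isQuotientMap_of_surjective q).isOpen_preimage.1 (isOpen_discrete _)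
  obtain ⟨B, _, _, e₁, he₁, he₁', hB, hn⟩ := fdl_iff.1 hT
  obtain ⟨A, _, _, e, he, he'⟩ := exists_specAlg (pullback.snd h γ)
  obtain ⟨ψ, hψ⟩ : ∃ ψ, Spec.map ψ = inv e₁ ≫ q ≫ e := ⟨_, Spec.map_preimage _⟩
  have hff : ψ.hom.FaithfullyFlat := by
    rw [RingHom.FaithfullyFlat.iff_flat_and_comap_surjective]
    have h1 : Flat (Spec.map ψ) := by rw [hψ]; infer_instance
    have h2 : Surjective (Spec.map ψ) := by rw [hψ]; infer_instance
    exact ⟨Flat.SpecMap_iff.1 h1, h2.surj⟩
  have hK : ψ.hom.comp (algebraMap k A) = algebraMap k B := by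
    have : Spec.map ψ ≫ specAlg k A = specAlg k B := by
      rw [hψ, Category.assoc, Category.assoc, he', IsIso.inv_comp_eq, he₁', hqsnd]
    rw [← Spec.map_comp] at this
    exact congrArg CommRingCat.Hom.hom (Spec.map_injective this)
  let L : A →ₗ[k] B := (AlgHom.mk ψ.hom fun c => RingHom.congr_fun hK c).toLinearMap
  have hL : Function.Injective L := RingHom.FaithfullyFlat.injective (f := ψ.hom) hff
  exact fdl_iff.2 ⟨A, _, _, e, he, he', Module.Finite.of_injective L hL,
    (LinearMap.finrank_le_finrank_of_injective hL).trans hn⟩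

theorem fibreDeg_of_etale (f : X ⟶ Y) [Etale f] (n : ℕ)
    (h : ∀ (k : Type u) [Field k] (g : Spec (CommRingCat.of k) ⟶ Y),
      Finite ↥(pullback f g) ∧ Nat.card ↥(pullback f g) ≤ n) :
    FibreDegLE f n := by
  intro y
  let K := AlgebraicClosure (Y.residueField y)
  let γ := specAlg (Y.residueField y) K ≫ Y.fromSpecResidueField y
  obtain ⟨hfin, hcard⟩ := h K γ
  let p := pullback.snd f γ
  have : Etale p := inferInstance
  have : JacobsonSpace ↥(pullback f γ) := LocallyOfFiniteType.jacobsonSpace p
  have : DiscreteTopology ↥(pullback f γ) := inferInstance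
  obtain ⟨A, _, _, e, he, he'⟩ := exists_specAlg p
  have hEt : Algebra.Etale K A := by
    have h1 : Etale (specAlg K A) := by
      rw [← (MorphismProperty.cancel_left_of_respectsIso @Etale e _), he']
      infer_instance
    rw [HasRingHomProperty.Spec_iff (P := @Etale)] at h1
    exact RingHom.etale_algebraMap.1 h1
  have hAfin : Module.Finite K A := Algebra.FormallyUnramified.finite_of_free K A
  have : IsArtinianRing A := IsArtinianRing.of_finite K A
  have : _root_.IsReduced A := Algebra.FormallyUnramified.isReduced_of_field K A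
  have := Fintype.ofFinite (MaximalSpectrum A)
  let L : A →ₗ[K] (Π m : MaximalSpectrum A, A ⧸ m.asIdeal) :=
    LinearMap.pi fun m => (Ideal.Quotient.mkₐ K m.asIdeal).toLinearMap
  have hL : Function.Injective L := by
    intro a b hab
    exact (IsArtinianRing.equivPi A).injective (funext fun m => congrFun hab m)
  have hrank : Module.finrank K A ≤ n := by
    refine (LinearMap.finrank_le_finrank_of_injective hL).trans (le_trans ?_ hcard)
    have h1 : ∀ m : MaximalSpectrum A, Module.finrank K (A ⧸ m.asIdeal) = 1 := by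
      intro m
      have := m.isMaximal
      let := Ideal.Quotient.field m.asIdeal
      have hb := IsAlgClosed.algebraMap_bijective_of_isIntegral (k := K) (K := A ⧸ m.asIdeal)
      exact (LinearEquiv.ofBijective (Algebra.linearMap K (A ⧸ m.asIdeal)) hb).finrank_eq.symm.trans
        (Module.finrank_self K)
    rw [Module.finrank_pi_fintype, Finset.sum_congr rfl fun m _ => h1 m, ← Finset.card_eq_sum_ones,
      Finset.card_univ, ← Nat.card_eq_fintype_card,
      ← Nat.card_congr (IsArtinianRing.primeSpectrumEquivMaximalSpectrum (R := A))]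
    exact (Nat.card_congr (asIso e).hom.homeomorph.toEquiv).ge
  have hT : FiniteOfDegLE (CommRingCat.of K) p n := fdl_iff.2 ⟨A, _, _, e, he, he', hAfin, hrank⟩
  let r : pullback f γ ⟶ f.fiber y :=
    pullback.lift (pullback.fst f γ) (p ≫ specAlg (Y.residueField y) K)
      (by rw [Category.assoc, pullback.condition])
  refine fdl_descend (K := Y.residueField y) (L := K) (g := r) ?_ hT
  have hbot : IsPullback (pullback.fst f (Y.fromSpecResidueField y)) (f.fiberToSpecResidueField y) f
      (Y.fromSpecResidueField y) := IsPullback.of_hasPullback _ _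
  refine IsPullback.of_right ?_ (pullback.lift_snd _ _ _) hbot
  rw [show r ≫ pullback.fst f (Y.fromSpecResidueField y) = pullback.fst f γ from pullback.lift_fst _ _ _]
  exact IsPullback.of_hasPullback f γ

end Groth.Agent.Sweep9Lib
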