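import Groth.Agent.Sweep9Lib.FibreDeg2

/-!
Quasi-finite morphisms from quasi-compact schemes have universally bounded fibres.
-/

set_option autoImplicit false
universe u

open CategoryTheory Limits AlgebraicGeometry TensorProduct BddFib

namespace Groth.Agent.Sweep9Lib

theorem fibreDeg_of_finite_module {A B : Type u} [CommRing A] [CommRing B] [Algebra A B] {N : ℕ}
    (w : Fin N → B) (hw : Submodule.span A (Set.range w) = ⊤) : FibreDegLE (specAlg A B) N := by
  rw [fibreDeg_iff]
  intro k _ γ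
  obtain ⟨ψ, rfl⟩ : ∃ ψ, Spec.map ψ = γ := ⟨_, Spec.map_preimage γ⟩
  let := ψ.hom.toAlgebra
  let g : (Fin N → k) →ₗ[k] k ⊗[A] B := Fintype.linearCombination k (fun i => (1 : k) ⊗ₜ[A] w i)
  have hg : Function.Surjective g := by
    rw [← LinearMap.range_eq_top, Fintype.range_linearCombination, eq_top_iff]
    intro z hz
    clear hz
    induction z using TensorProduct.induction_on with
    | zero => exact Submodule.zero_mem _
    | tmul c b =>
      have hb : b ∈ Submodule.span A (Set.range w) := by rw [hw]; trivial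
      induction hb using Submodule.span_induction with
      | mem y hy =>
        obtain ⟨i, rfl⟩ := hy
        have : c ⊗ₜ[A] w i = c • ((1 : k) ⊗ₜ[A] w i) := by rw [TensorProduct.smul_tmul', smul_eq_mul, mul_one]
        rw [this]
        exact Submodule.smul_mem _ _ (Submodule.subset_span ⟨i, rfl⟩)
      | zero => rw [TensorProduct.tmul_zero]; exact Submodule.zero_mem _
      | add y z _ _ hy hz => rw [TensorProduct.tmul_add]; exact Submodule.add_mem _ hy hz
      | smul a y _ hy =>
        rw [TensorProduct.tmul_smul, ← algebraMap_smul k a]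
        exact Submodule.smul_mem _ _ hy
    | add y z hy hz => exact Submodule.add_mem _ hy hz
  have h2 : FiniteOfDegLE (CommRingCat.of k) (specAlg k (k ⊗[A] B)) N := by
    refine fdl_spec_iff.2 ⟨Module.Finite.of_surjective g hg,
      (LinearMap.finrank_le_finrank_of_surjective hg).trans ?_⟩
    rw [Module.finrank_fin_fun]
  refine fdl_of_iso ((pullbackSymmetry _ _).hom ≫ (pullbackSpecIso A k B).hom) ?_ h2
  rw [Category.assoc, show (pullbackSpecIso A k B).hom ≫ specAlg k (k ⊗[A] B) = pullback.fst _ _ from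
    pullbackSpecIso_hom_fst' A k B]
  exact pullbackSymmetry_hom_comp_fst _ _

theorem fdl_of_cover {K : Type u} [Field K] {T : Scheme.{u}} (p : T ⟶ Spec (CommRingCat.of K))
    {ι : Type u} [Fintype ι] (U : ι → T.Opens) (hU : ⨆ i, U i = ⊤) (N : ι → ℕ)
    (h : ∀ i, FiniteOfDegLE (CommRingCat.of K) ((U i).ι ≫ p) (N i)) :
    FiniteOfDegLE (CommRingCat.of K) p (∑ i, N i) := by
  have hmem : ∀ x : T, ∃ i, x ∈ U i := fun x => by
    rw [← TopologicalSpace.Opens.mem_iSup, hU]; trivial
  have hTf : Finite T := by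
    have : (Set.univ : Set T).Finite := by
      refine Set.Finite.subset (Set.finite_iUnion fun i =>
        (have := (fdl_finite (h i)).1; Set.finite_range (U i).ι)) fun x _ => ?_
      obtain ⟨i, hi⟩ := hmem x
      exact Set.mem_iUnion.2 ⟨i, ⟨x, hi⟩, rfl⟩
    exact Set.finite_univ_iff.1 this
  have hTd : DiscreteTopology T := by
    refine discreteTopology_iff_isOpen_singleton.2 fun x => ?_
    obtain ⟨i, hi⟩ := hmem x
    have : DiscreteTopology (U i).toScheme := (fdl_finite (h i)).2
    have h3 := (U i).ι.isOpenEmbedding.isOpenMap _ (isOpen_discrete ({(⟨x, hi⟩ : U i)} : Set (U i).toScheme))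
    have h4 : ({x} : Set T) = (U i).ι '' ({(⟨x, hi⟩ : U i)} : Set (U i).toScheme) :=
      (Set.image_singleton (f := (U i).ι) (a := (⟨x, hi⟩ : U i))).symm
    rw [h4]; exact h3
  let := secAlgebra (CommRingCat.of K) p
  let alg : ∀ i, Algebra K Γ((U i).toScheme, ⊤) := fun i => secAlgebra (CommRingCat.of K) ((U i).ι ≫ p)
  let R : ∀ i, Γ(T, ⊤) →ₐ[K] Γ((U i).toScheme, ⊤) := fun i =>
    { (U i).ι.appTop.hom with commutes' := fun _ => rfl }
  let L : Γ(T, ⊤) →ₗ[K] (Π i, Γ((U i).toScheme, ⊤)) := LinearMap.pi fun i => (R i).toLinearMap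
  have hfin : ∀ i, Module.Finite K Γ((U i).toScheme, ⊤) := fun i => (h i).2.1
  have hL : Function.Injective L := by
    intro a b hab
    refine TopCat.Sheaf.eq_of_locally_eq' T.sheaf U ⊤ (fun i => homOfLE le_top) hU.ge a b fun i => ?_
    have h1 : (U i).ι.appTop a = (U i).ι.appTop b := congrFun hab i
    rw [Scheme.Opens.ι_appTop] at h1
    have hle : (U i).ι ''ᵁ ⊤ = U i := Scheme.Opens.ι_image_top _
    have h2 := congrArg (T.presheaf.map (eqToHom hle.symm).op) h1
    exact ((ConcreteCategory.congr_hom (T.presheaf.map_comp _ _) a).trans h2).trans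
      (ConcreteCategory.congr_hom (T.presheaf.map_comp _ _) b).symm
  refine ⟨inferInstance, Module.Finite.of_injective L hL, ?_⟩
  refine (LinearMap.finrank_le_finrank_of_injective hL).trans ?_
  rw [Module.finrank_pi_fintype]
  exact Finset.sum_le_sum fun i _ => (h i).2.2

theorem exists_nhd_bounded {X Y : Scheme.{u}} (f : X ⟶ Y) [LocallyQuasiFinite f] [LocallyOfFiniteType f]
    (x : X) : ∃ (U : X.Opens) (N : ℕ), x ∈ U ∧ FibreDegLE (U.ι ≫ f) N := by
  obtain ⟨_, ⟨V, hV, rfl⟩, hxV, -⟩ := Y.isBasis_affineOpens.exists_subset_of_mem_open (Set.mem_univ (f x)) isOpen_univ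
  obtain ⟨_, ⟨W, hW, rfl⟩, hxW, hWV⟩ := X.isBasis_affineOpens.exists_subset_of_mem_open hxV (f ⁻¹ᵁ V).2
  let A := Γ(Y, V)
  let B := Γ(X, W)
  let := (f.appLE V W hWV).hom.toAlgebra
  have hFT : Algebra.FiniteType A B := f.finiteType_appLE hV hW hWV
  have hQF : Algebra.QuasiFinite A B :=
    HasRingHomProperty.appLE @LocallyQuasiFinite f ‹_› ⟨V, hV⟩ ⟨W, hW⟩ hWV
  let q := hW.primeIdealOf ⟨x, hxW⟩
  obtain ⟨S', hS', r, hrq, hbij⟩ :=
    Algebra.QuasiFiniteAt.exists_fg_and_exists_notMem_and_awayMap_bijective (R := A) q.asIdeal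
  obtain ⟨s, hs⟩ := hS'
  let w : Fin s.card → S' := fun i => ⟨(s.equivFin.symm i).1, by
    have : ((s.equivFin.symm i).1 : B) ∈ Subalgebra.toSubmodule S' := hs ▸ Submodule.subset_span (s.equivFin.symm i).2
    exact this⟩
  have hw : Submodule.span A (Set.range w) = ⊤ := by
    apply Submodule.map_injective_of_injective (f := (Subalgebra.toSubmodule S').subtype) Subtype.val_injective
    erw [Submodule.map_span, Submodule.map_top, Submodule.range_subtype]
    refine Eq.trans ?_ hs
    congr 1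
    ext y
    constructor
    · rintro ⟨_, ⟨i, rfl⟩, rfl⟩; exact (s.equivFin.symm i).2
    · intro hy; exact ⟨_, ⟨s.equivFin ⟨y, hy⟩, rfl⟩, by simp [w]⟩
  have hfin : FibreDegLE (specAlg A S') s.card := fibreDeg_of_finite_module w hw
  let φ := Localization.awayMap S'.val.toRingHom r
  have : IsIso (Spec.map (CommRingCat.ofHom φ)) := by
    have : IsIso (CommRingCat.ofHom φ) := (ConcreteCategory.isIso_iff_bijective _).2 hbij
    infer_instance
  let j : Spec (CommRingCat.of (Localization.Away (S'.val.toRingHom r))) ⟶ Spec (CommRingCat.of S') :=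
    Spec.map (CommRingCat.ofHom φ) ≫
      Spec.map (CommRingCat.ofHom (algebraMap S' (Localization.Away r)))
  have : IsOpenImmersion (Spec.map (CommRingCat.ofHom (algebraMap S' (Localization.Away r)))) :=
    IsOpenImmersion.of_isLocalization r
  have hj : FibreDegLE (j ≫ specAlg A S') (1 * s.card) := fibreDeg_comp _ _ _ _ (fibreDeg_immersion j) hfin
  let c : Spec (CommRingCat.of (Localization.Away (S'.val.toRingHom r))) ⟶ X :=
    Spec.map (CommRingCat.ofHom (algebraMap B (Localization.Away (S'.val.toRingHom r)))) ≫ hW.fromSpec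
  have : IsOpenImmersion (Spec.map (CommRingCat.ofHom (algebraMap B (Localization.Away (S'.val.toRingHom r))))) :=
    IsOpenImmersion.of_isLocalization (S'.val.toRingHom r)
  have hc : IsOpenImmersion c := inferInstance
  have hcf : c ≫ f = (j ≫ specAlg A S') ≫ hV.fromSpec := by
    change (_ ≫ hW.fromSpec) ≫ f = _
    rw [Category.assoc, ← IsAffineOpen.SpecMap_appLE_fromSpec f hV hW hWV, ← Category.assoc]
    congr 1
    change Spec.map _ ≫ Spec.map _ = (Spec.map _ ≫ Spec.map _) ≫ Spec.map _
    rw [← Spec.map_comp, ← Spec.map_comp, ← Spec.map_comp]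
    congr 1
    ext a
    change algebraMap B (Localization.Away (S'.val.toRingHom r)) (algebraMap A B a) = φ (algebraMap S' (Localization.Away r) (algebraMap A S' a))
    exact (IsLocalization.map_eq (R := S') (M := Submonoid.powers r) (S := Localization.Away r) (P := B) (T := Submonoid.powers (S'.val.toRingHom r)) (Q := Localization.Away (S'.val.toRingHom r)) (g := S'.val.toRingHom) (hy := fun t ht => by obtain ⟨n, rfl⟩ := ht; exact ⟨n, (map_pow _ _ _).symm⟩) (algebraMap A S' a)).symm
  have hcN : FibreDegLE (c ≫ f) (1 * s.card * 1) := by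
    rw [hcf]; exact fibreDeg_comp _ _ _ _ hj (fibreDeg_immersion hV.fromSpec)
  refine ⟨c.opensRange, 1 * s.card * 1, ?_, ?_⟩
  · obtain ⟨z, hz⟩ := (PrimeSpectrum.localization_away_comap_range
      (Localization.Away (S'.val.toRingHom r)) (S'.val.toRingHom r)).ge
      (show q ∈ PrimeSpectrum.basicOpen (S'.val.toRingHom r) from hrq)
    refine ⟨z, ?_⟩
    have h5 : Spec.map (CommRingCat.ofHom (algebraMap B (Localization.Away (S'.val.toRingHom r)))) z = q := hz
    change hW.fromSpec (Spec.map (CommRingCat.ofHom (algebraMap B (Localization.Away (S'.val.toRingHom r)))) z) = x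
    rw [h5]
    exact hW.fromSpec_primeIdealOf ⟨x, hxW⟩
  · refine fibreDeg_of_isPullback (c ≫ f) (𝟙 _) (c.opensRange.ι ≫ f) c.isoOpensRange.inv ?_ _ hcN
    refine IsPullback.of_horiz_isIso ⟨?_⟩
    rw [Category.comp_id, ← Category.assoc, Scheme.Hom.isoOpensRange_inv_comp]

theorem univBounded_of_quasiFinite {X Y : Scheme.{u}} (f : X ⟶ Y) [LocallyQuasiFinite f]
    [LocallyOfFiniteType f] [CompactSpace X] : UnivBounded f := by
  choose U N hxU hN using exists_nhd_bounded f
  obtain ⟨t, ht⟩ := isCompact_univ.elim_finite_subcover (fun x => (U x : Set X)) (fun x => (U x).isOpen)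
    (fun x _ => Set.mem_iUnion.2 ⟨x, hxU x⟩)
  refine ⟨∑ x : t, N x.1, ?_⟩
  rw [fibreDeg_iff]
  intro k _ γ
  let T := pullback f γ
  refine fdl_of_cover (pullback.snd f γ) (fun x : t => pullback.fst f γ ⁻¹ᵁ U x.1) ?_ (fun x => N x.1) ?_
  · refine top_le_iff.1 fun z _ => ?_
    obtain ⟨x, hx, hzx⟩ := Set.mem_iUnion₂.1 (ht (Set.mem_univ (pullback.fst f γ z)))
    exact TopologicalSpace.Opens.mem_iSup.2 ⟨⟨x, hx⟩, hzx⟩
  · intro x
    have hsq : IsPullback (pullback.fst f γ ∣_ U x.1) ((pullback.fst f γ ⁻¹ᵁ U x.1).ι ≫ pullback.snd f γ)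
        ((U x.1).ι ≫ f) γ :=
      (isPullback_morphismRestrict (pullback.fst f γ) (U x.1)).paste_vert (IsPullback.of_hasPullback f γ)
    exact fdl_of_iso hsq.isoPullback.hom hsq.isoPullback_hom_snd ((fibreDeg_iff _ _).1 (hN x.1) k γ)

end Groth.Agent.Sweep9Lib
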