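import Groth.Agent.Sweep9Lib.LieAdd
import Groth.Prelude.Def_Red

/-!
Dual number points of a diagonalisable group as algebra maps.
-/

set_option autoImplicit false
universe u

open CategoryTheory AlgebraicGeometry MonoidalCategory CartesianMonoidalCategory
open scoped MonObj

namespace Groth.Agent.Sweep9Lib

variable {R : Type u} [CommRing R] {M : Type} [AddCommGroup M] {B : Type u} [CommRing B] [Algebra R B]

local notation "A" => MonoidAlgebra R (Multiplicative M)

/-- the algebra map of a dual number point. -/
noncomputable def diagAlg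
    (v : LieS.dpt B (Spec.map (CommRingCat.ofHom (algebraMap R B))) ⟶ Red.diag R M) :
    A →ₐ[R] DualNumber B :=
  (Spec.mapMulEquiv.symm ((LieS.dptIso B).inv ≫ v)).ofConv

/-- the group isomorphism between points and convolution algebra maps. -/
noncomputable def diagPts :
    (LieS.dpt B (Spec.map (CommRingCat.ofHom (algebraMap R B))) ⟶ Red.diag R M) ≃*
      WithConv (A →ₐ[R] DualNumber B) :=
  ({ toFun := fun v => (LieS.dptIso B).inv ≫ v
     invFun := fun w => (LieS.dptIso B).hom ≫ w
     left_inv := fun v => by simp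
     right_inv := fun w => by simp
     map_mul' := fun v w => MonObj.comp_mul _ _ _ } :
    (LieS.dpt B (Spec.map (CommRingCat.ofHom (algebraMap R B))) ⟶ Red.diag R M) ≃*
      ((Spec (CommRingCat.of (DualNumber B))).asOver (Spec (CommRingCat.of R)) ⟶ Red.diag R M)).trans
    Spec.mapMulEquiv.symm

lemma diagPts_apply (v : LieS.dpt B (Spec.map (CommRingCat.ofHom (algebraMap R B))) ⟶ Red.diag R M) :
    (diagPts v).ofConv = diagAlg v := rfl

lemma diagAlg_mul_single
    (v w : LieS.dpt B (Spec.map (CommRingCat.ofHom (algebraMap R B))) ⟶ Red.diag R M)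
    (m : Multiplicative M) :
    diagAlg (v * w) (MonoidAlgebra.single m 1) =
      diagAlg v (MonoidAlgebra.single m 1) * diagAlg w (MonoidAlgebra.single m 1) := by
  rw [← diagPts_apply, map_mul, ← diagPts_apply, ← diagPts_apply]
  simp [AlgHom.convMul_def]

lemma diagAlg_one_single (m : Multiplicative M) :
    diagAlg (1 : LieS.dpt B (Spec.map (CommRingCat.ofHom (algebraMap R B))) ⟶ Red.diag R M)
      (MonoidAlgebra.single m 1) = 1 := by
  rw [← diagPts_apply, map_one]
  simp [AlgHom.convOne_def]

lemma diagAlg_scale (b : B)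
    (v : LieS.dpt B (Spec.map (CommRingCat.ofHom (algebraMap R B))) ⟶ Red.diag R M) (x : A) :
    diagAlg (LieS.scale B _ b ≫ v) x = LieS.scaleHom b (diagAlg v x) := by
  let χ : A →ₐ[R] DualNumber B :=
    { (LieS.scaleHom b).comp (diagAlg v).toRingHom with
      commutes' := fun r => by
        change LieS.scaleHom b (diagAlg v (algebraMap R A r)) = _
        rw [AlgHom.commutes, ← LieS.algebraMap_comp_eq]
        exact RingHom.congr_fun (LieS.scaleHom_comp_algebraMap b) _ }
  suffices h : diagAlg (LieS.scale B _ b ≫ v) = χ from DFunLike.congr_fun h x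
  apply WithConv.toConv_injective
  change Spec.mapMulEquiv.symm ((LieS.dptIso B).inv ≫ LieS.scale B _ b ≫ v) = WithConv.toConv χ
  rw [MulEquiv.symm_apply_eq]
  have hv : (LieS.dptIso B).inv ≫ v = Spec.mapMulEquiv (WithConv.toConv (diagAlg v)) :=
    (Spec.mapMulEquiv.apply_symm_apply _).symm
  have hv' : v = (LieS.dptIso B).hom ≫ Spec.mapMulEquiv (WithConv.toConv (diagAlg v)) := by
    rw [← hv, Iso.hom_inv_id_assoc]
  conv_lhs => rw [hv']
  apply Over.OverMorphism.ext
  change 𝟙 _ ≫ Spec.map (CommRingCat.ofHom (LieS.scaleHom b)) ≫ 𝟙 _ ≫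
    Spec.map (CommRingCat.ofHom (diagAlg v).toRingHom) = Spec.map (CommRingCat.ofHom χ.toRingHom)
  rw [Category.id_comp, Category.id_comp, LieS.specMap_comp]

lemma mem_Lie_iff_fst
    (v : LieS.dpt B (Spec.map (CommRingCat.ofHom (algebraMap R B))) ⟶ Red.diag R M) :
    v ∈ LieS.LieR (Red.diag R M) B ↔
      ∀ m : Multiplicative M, (diagAlg v (MonoidAlgebra.single m 1)).fst = 1 := by
  constructor
  · intro hv m
    have h := diagAlg_scale 0 v (MonoidAlgebra.single m 1)
    rw [scale_zero_comp _ ((LieS.mem_Lie_iff _ _ _ _).1 hv), diagAlg_one_single] at h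
    have := congrArg TrivSqZeroExt.fst h
    simpa [LieS.scaleHom, TrivSqZeroExt.algebraMap_eq_inl'] using this.symm
  · intro hm
    have h : LieS.scale B (Spec.map (CommRingCat.ofHom (algebraMap R B))) 0 ≫ v = 1 := by
      apply diagPts.injective
      rw [map_one]
      apply WithConv.ofConv_injective
      refine MonoidAlgebra.algHom_ext (fun m => ?_) (by ext)
      rw [diagPts_apply, diagAlg_scale]
      simp [AlgHom.convOne_def, LieS.scaleHom, TrivSqZeroExt.algebraMap_eq_inl', hm m]
    rw [LieS.mem_Lie_iff, ← LieS.zeroSec_scale B _ 0, Category.assoc, h]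
    exact MonObj.comp_one _

/-- a tangent vector of a diagonalisable group from a linear form on characters. -/
noncomputable def diagTangent (a : M →+ B) :
    LieS.dpt B (Spec.map (CommRingCat.ofHom (algebraMap R B))) ⟶ Red.diag R M :=
  diagPts.symm (WithConv.toConv (MonoidAlgebra.lift R (DualNumber B) (Multiplicative M)
    { toFun := fun m => 1 + TrivSqZeroExt.inr (a (Multiplicative.toAdd m))
      map_one' := by simp
      map_mul' := fun x y => TrivSqZeroExt.ext (by simp) (by simp [add_comm]) }))

lemma diagAlg_diagTangent (a : M →+ B) (m : Multiplicative M) :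
    diagAlg (R := R) (diagTangent a) (MonoidAlgebra.single m 1) =
      1 + TrivSqZeroExt.inr (a (Multiplicative.toAdd m)) := by
  rw [← diagPts_apply, diagTangent, MulEquiv.apply_symm_apply]
  simp

lemma diagAlg_ext
    (v w : LieS.dpt B (Spec.map (CommRingCat.ofHom (algebraMap R B))) ⟶ Red.diag R M)
    (h : ∀ m : Multiplicative M,
      diagAlg v (MonoidAlgebra.single m 1) = diagAlg w (MonoidAlgebra.single m 1)) : v = w := by
  apply diagPts.injective
  apply WithConv.ofConv_injective
  exact MonoidAlgebra.algHom_ext h (by ext)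

lemma diagTangent_mem (a : M →+ B) :
    diagTangent (R := R) a ∈ LieS.LieR (Red.diag R M) B := by
  rw [mem_Lie_iff_fst]
  intro m
  rw [diagAlg_diagTangent]
  simp

/-- the linear form of a tangent vector. -/
noncomputable def tangentForm (v : LieS.LieR (Red.diag R M) B) : M →+ B :=
  AddMonoidHom.mk'
    (fun m => TrivSqZeroExt.snd (diagAlg v.1 (MonoidAlgebra.single (Multiplicative.ofAdd m) 1)))
    (fun a b => by
      rw [ofAdd_add, ← one_mul (1 : R), ← MonoidAlgebra.single_mul_single, map_mul,
        DualNumber.snd_mul, (mem_Lie_iff_fst v.1).1 v.2, (mem_Lie_iff_fst v.1).1 v.2]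
      simp [add_comm])

lemma tangentForm_apply (v : LieS.LieR (Red.diag R M) B) (m : M) :
    tangentForm v m =
      TrivSqZeroExt.snd (diagAlg v.1 (MonoidAlgebra.single (Multiplicative.ofAdd m) 1)) := rfl

/-- the tangent space of a diagonalisable group. -/
noncomputable def lieDiagEquiv : LieS.LieR (Red.diag R M) B ≃* Multiplicative (M →+ B) where
  toFun v := Multiplicative.ofAdd (tangentForm v)
  invFun a := ⟨diagTangent (Multiplicative.toAdd a), diagTangent_mem _⟩
  left_inv v := by
    refine Subtype.ext (diagAlg_ext _ _ fun m => TrivSqZeroExt.ext ?_ ?_)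
    · rw [diagAlg_diagTangent, (mem_Lie_iff_fst v.1).1 v.2 m]; simp
    · rw [diagAlg_diagTangent]; simp [tangentForm_apply]
  right_inv a := by
    apply Multiplicative.toAdd.injective
    ext m
    simp only [toAdd_ofAdd, tangentForm_apply, diagAlg_diagTangent]
    simp
  map_mul' v w := by
    apply Multiplicative.toAdd.injective
    ext m
    change TrivSqZeroExt.snd (diagAlg (v.1 * w.1) _) =
      TrivSqZeroExt.snd (diagAlg v.1 _) + TrivSqZeroExt.snd (diagAlg w.1 _)
    rw [diagAlg_mul_single, DualNumber.snd_mul, (mem_Lie_iff_fst v.1).1 v.2,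
      (mem_Lie_iff_fst w.1).1 w.2]
    simp [add_comm]

lemma tangentForm_smul (b : B) (v : LieS.LieR (Red.diag R M) B) :
    tangentForm (b • v) = b • tangentForm v := by
  ext m
  rw [AddMonoidHom.smul_apply, tangentForm_apply, tangentForm_apply, LieS.smul_val, diagAlg_scale]
  simp [LieS.scaleHom, TrivSqZeroExt.algebraMap_eq_inl', mul_comm]

end Groth.Agent.Sweep9Lib
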