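import Mathlib
import Groth.Agent.DvrDom.Mono

/-!
Monomorphisms into coproducts of spectra of fields.
-/

set_option autoImplicit false
universe u

open CategoryTheory Limits AlgebraicGeometry

namespace Groth.Agent.Sweep9Lib

lemma exists_iso_sigma_of_mono {ι : Type u} (k : ι → Type u) [∀ i, Field (k i)]
    {Y : Scheme.{u}} (f : Y ⟶ ∐ fun i => Spec (CommRingCat.of (k i))) [Mono f] :
    ∃ (J : Set ι) (e : Y ≅ ∐ fun j : J => Spec (CommRingCat.of (k j.1))),
      e.hom ≫ Sigma.desc (fun j : J => Sigma.ι (fun i => Spec (CommRingCat.of (k i))) j.1) = f := by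
  let F := fun i => Spec (CommRingCat.of (k i))
  let J : Set ι := {i | ∃ y : Y, f y = Sigma.ι F i (IsLocalRing.closedPoint (k i))}
  have hl : ∀ j : J, ∃ l : F j.1 ⟶ Y, l ≫ f = Sigma.ι F j.1 := fun j => by
    obtain ⟨y, hy⟩ := j.2
    obtain ⟨l, hl, -⟩ := DvrDomLib.exists_lift_of_mono_of_apply_eq f (Sigma.ι F j.1) y hy.symm
    exact ⟨l, hl⟩
  choose l hl using hl
  let m : (∐ fun j : J => F j.1) ⟶ ∐ F := Sigma.desc fun j : J => Sigma.ι F j.1
  have : IsOpenImmersion m := isOpenImmersion_sigmaDesc _ _ fun a b hab => by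
    have := disjoint_opensRange_sigmaι F a.1 b.1 fun h => hab (Subtype.ext h)
    rw [Function.onFun, Set.disjoint_left]
    intro x hx hx'
    exact (TopologicalSpace.Opens.mem_bot).1 (this.le_bot ⟨hx, hx'⟩)
  have hr : Set.range f ⊆ Set.range m := by
    rintro _ ⟨y, rfl⟩
    obtain ⟨i, t, ht⟩ : ∃ i t, Sigma.ι F i t = f y := by
      obtain ⟨⟨i, t⟩, h⟩ := (sigmaMk F).surjective (f y)
      exact ⟨i, t, by rw [← sigmaMk_mk]; exact h⟩
    have htc : t = IsLocalRing.closedPoint (k i) := Subsingleton.elim (α := PrimeSpectrum _) _ _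
    refine ⟨Sigma.ι (fun j : J => F j.1) ⟨i, y, htc ▸ ht.symm⟩ t, ?_⟩
    rw [← Scheme.Hom.comp_apply, Sigma.ι_desc]
    exact ht
  let g := IsOpenImmersion.lift m f hr
  have hg : g ≫ m = f := IsOpenImmersion.lift_fac _ _ _
  have hlm : Sigma.desc l ≫ f = m := Sigma.hom_ext _ _ fun j => by simp [m, hl]
  refine ⟨J, ⟨g, Sigma.desc l, ?_, ?_⟩, hg⟩
  · rw [← cancel_mono f, Category.assoc, hlm, hg, Category.id_comp]
  · rw [← cancel_mono m, Category.assoc, hg, hlm, Category.id_comp]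

lemma exists_iso_pi_of_mono {ι : Type u} [Finite ι] (k : ι → Type u) [∀ i, Field (k i)]
    {X : Scheme.{u}} (f : X ⟶ Spec (CommRingCat.of (Π i, k i))) [Mono f] :
    ∃ (I : Set ι) (e : X ≅ Spec (CommRingCat.of (Π i : I, k i))),
      e.hom ≫ Spec.map (CommRingCat.ofHom (Pi.ringHom fun i : I => Pi.evalRingHom k i.1)) = f := by
  let σ := sigmaSpec fun i => CommRingCat.of (k i)
  obtain ⟨I, e, he⟩ := exists_iso_sigma_of_mono k (f ≫ inv σ)
  let τ := sigmaSpec fun i : I => CommRingCat.of (k i.1)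
  refine ⟨I, e ≪≫ asIso τ, ?_⟩
  have key : τ ≫ Spec.map (CommRingCat.ofHom (Pi.ringHom fun i : I => Pi.evalRingHom k i.1)) =
      Sigma.desc (fun j : I => Sigma.ι (fun i => Spec (CommRingCat.of (k i))) j.1) ≫ σ := by
    refine Sigma.hom_ext _ _ fun j => ?_
    rw [ι_sigmaSpec_assoc, Sigma.ι_desc_assoc, ι_sigmaSpec, ← Spec.map_comp]
    rfl
  rw [Iso.trans_hom, asIso_hom, Category.assoc, key, reassoc_of% he, IsIso.inv_hom_id,
    Category.comp_id]

end Groth.Agent.Sweep9Lib
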