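import Mathlib

/-!
Quasi-separated morphisms from affine covers.
-/

set_option autoImplicit false
universe u

open CategoryTheory AlgebraicGeometry TopologicalSpace

namespace Groth.Agent.Sweep9Lib

lemma quasiSeparated_of_covers {X S : Scheme.{u}} (f : X ⟶ S) {ι : Type u} (W : ι → S.affineOpens)
    (hW : ⨆ i, (W i : S.Opens) = ⊤) {κ : ι → Type u} (V : ∀ i, κ i → X.affineOpens)
    (hV : ∀ i, ⨆ j, (V i j : X.Opens) = f ⁻¹ᵁ (W i : S.Opens))
    (hVV : ∀ i (j j' : κ i), IsCompact ((V i j : Set X) ∩ (V i j' : Set X))) :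
    QuasiSeparated f := by
  refine HasAffineProperty.of_iSup_eq_top (P := @QuasiSeparated) W hW fun i => ?_
  let P := f ⁻¹ᵁ (W i : S.Opens)
  have hle : ∀ j, (V i j : X.Opens) ≤ P := fun j => (le_iSup (fun j => (V i j : X.Opens)) j).trans (hV i).le
  refine Scheme.quasiSeparatedSpace_of_isOpenCover (fun j => P.ι ⁻¹ᵁ (V i j : X.Opens)) ?_
    (fun j => IsAffineOpen.preimage_of_isOpenImmersion (V i j).2 P.ι (by simpa using hle j)) ?_
  · refine top_le_iff.1 fun x _ => ?_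
    have hx : x.1 ∈ ⨆ j, (V i j : X.Opens) := by rw [hV i]; exact x.2
    obtain ⟨j, hj⟩ := Opens.mem_iSup.1 hx
    exact Opens.mem_iSup.2 ⟨j, hj⟩
  · intro j j'
    rw [P.ι.isEmbedding.isInducing.isCompact_iff]
    have : P.ι '' (((P.ι ⁻¹ᵁ (V i j : X.Opens)) : Set P) ∩ (P.ι ⁻¹ᵁ (V i j' : X.Opens)))
        = (V i j : Set X) ∩ (V i j' : Set X) := by
      ext x
      constructor
      · rintro ⟨y, hy, rfl⟩; exact hy
      · rintro ⟨h1, h2⟩; exact ⟨⟨x, hle j h1⟩, ⟨h1, h2⟩, rfl⟩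
    rw [this]
    exact hVV i j j'

lemma exists_affine_cover {X : Scheme.{u}} (P : X.Opens) :
    ⨆ j : {A : X.affineOpens // (A : X.Opens) ≤ P}, (j.1 : X.Opens) = P := by
  refine le_antisymm (iSup_le fun j => j.2) fun x hx => ?_
  obtain ⟨_, ⟨A, hA, rfl⟩, hxA, hAP⟩ := X.isBasis_affineOpens.exists_subset_of_mem_open hx P.isOpen
  exact Opens.mem_iSup.2 ⟨⟨⟨A, hA⟩, hAP⟩, hxA⟩

lemma quasiSeparated_iff_inter {X S : Scheme.{u}} (f : X ⟶ S) :
    QuasiSeparated f ↔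
      ∀ (U V : X.affineOpens) (W : S.affineOpens),
        (U : X.Opens) ≤ f ⁻¹ᵁ (W : S.Opens) → (V : X.Opens) ≤ f ⁻¹ᵁ (W : S.Opens) →
          IsCompact ((U : Set X) ∩ (V : Set X)) := by
  constructor
  · intro _ U V W hU hV
    exact (f.isQuasiSeparated_preimage W.2.isQuasiSeparated) U V hU U.1.isOpen U.2.isCompact hV
      V.1.isOpen V.2.isCompact
  · intro h
    exact quasiSeparated_of_covers f (id : S.affineOpens → _) (iSup_affineOpens_eq_top S)
      (κ := fun W => {A : X.affineOpens // (A : X.Opens) ≤ f ⁻¹ᵁ (W : S.Opens)})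
      (fun _ A => A.1) (fun W => exists_affine_cover _) (fun W A B => h A.1 B.1 W A.2 B.2)

end Groth.Agent.Sweep9Lib
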