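import Mathlib
import Groth.Prelude.Def_W4stkschemesremainderFib

/-!
Finite schemes of bounded degree over a field: base change and descent along field extensions.
-/

set_option autoImplicit false
universe u

open CategoryTheory Limits AlgebraicGeometry TensorProduct

namespace Groth.Agent.Sweep9Lib

open BddFib

/-- The structure map of `Spec A` over `Spec K`. -/
noncomputable abbrev specAlg (K : Type u) [CommRing K] (A : Type u) [CommRing A] [Algebra K A] :
    Spec (CommRingCat.of A) ⟶ Spec (CommRingCat.of K) :=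
  Spec.map (CommRingCat.ofHom (algebraMap K A))

lemma fdl_of_iso {K : CommRingCat.{u}} {T T' : Scheme.{u}} (e : T ⟶ T') [IsIso e] {p : T ⟶ Spec K}
    {p' : T' ⟶ Spec K} (h : e ≫ p' = p) {n : ℕ} (hp : FiniteOfDegLE K p' n) :
    FiniteOfDegLE K p n := by
  obtain ⟨hA, hF, hn⟩ := hp
  let := secAlgebra K p
  let := secAlgebra K p'
  have hA' : IsAffine T := IsAffine.of_isIso e
  let ε : Γ(T', ⊤) ≃+* Γ(T, ⊤) := (Scheme.Γ.mapIso (asIso e).op).commRingCatIsoToRingEquiv
  let E : Γ(T', ⊤) ≃ₐ[K] Γ(T, ⊤) := AlgEquiv.ofRingEquiv (f := ε) (fun r => by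
    change e.appTop (((Scheme.ΓSpecIso K).inv ≫ p'.appTop) r) = ((Scheme.ΓSpecIso K).inv ≫ p.appTop) r
    subst h
    rfl)
  refine ⟨hA', ?_, ?_⟩
  · exact Module.Finite.equiv E.toLinearEquiv
  · exact E.toLinearEquiv.finrank_eq ▸ hn

lemma fdl_spec_iff {K : Type u} [CommRing K] {A : Type u} [CommRing A] [Algebra K A] {n : ℕ} :
    FiniteOfDegLE (CommRingCat.of K) (specAlg K A) n ↔
      Module.Finite K A ∧ Module.finrank K A ≤ n := by
  let := secAlgebra (CommRingCat.of K) (specAlg K A)
  let ε : Γ(Spec (CommRingCat.of A), ⊤) ≃+* A := (Scheme.ΓSpecIso (CommRingCat.of A)).commRingCatIsoToRingEquiv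
  let E : Γ(Spec (CommRingCat.of A), ⊤) ≃ₐ[K] A := AlgEquiv.ofRingEquiv (f := ε) (fun r => by
    change ((Scheme.ΓSpecIso (CommRingCat.of K)).inv ≫ (specAlg K A).appTop ≫
      (Scheme.ΓSpecIso (CommRingCat.of A)).hom) r = algebraMap K A r
    rw [Scheme.ΓSpecIso_naturality, Iso.inv_hom_id_assoc]
    rfl)
  constructor
  · rintro ⟨-, hF, hn⟩
    exact ⟨Module.Finite.equiv (M := Γ(Spec (CommRingCat.of A), ⊤)) E.toLinearEquiv, E.toLinearEquiv.finrank_eq ▸ hn⟩
  · rintro ⟨hF, hn⟩
    exact ⟨inferInstance, Module.Finite.equiv E.symm.toLinearEquiv, E.symm.toLinearEquiv.finrank_eq ▸ hn⟩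

lemma exists_specAlg {K : Type u} [CommRing K] {T : Scheme.{u}} [IsAffine T]
    (p : T ⟶ Spec (CommRingCat.of K)) :
    ∃ (A : Type u) (_ : CommRing A) (_ : Algebra K A) (e : T ⟶ Spec (CommRingCat.of A)),
      IsIso e ∧ e ≫ specAlg K A = p := by
  obtain ⟨φ, hφ⟩ : ∃ φ, Spec.map φ = T.isoSpec.inv ≫ p := ⟨_, Spec.map_preimage _⟩
  let := φ.hom.toAlgebra
  refine ⟨Γ(T, ⊤), inferInstance, φ.hom.toAlgebra, T.isoSpec.hom, inferInstance, ?_⟩
  change T.isoSpec.hom ≫ Spec.map φ = p
  rw [hφ, Iso.hom_inv_id_assoc]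

lemma fdl_iff {K : Type u} [CommRing K] {T : Scheme.{u}} {p : T ⟶ Spec (CommRingCat.of K)} {n : ℕ} :
    FiniteOfDegLE (CommRingCat.of K) p n ↔
      ∃ (A : Type u) (_ : CommRing A) (_ : Algebra K A) (e : T ⟶ Spec (CommRingCat.of A)),
        IsIso e ∧ e ≫ specAlg K A = p ∧ Module.Finite K A ∧ Module.finrank K A ≤ n := by
  constructor
  · intro h
    have : IsAffine T := h.1
    obtain ⟨A, _, _, e, he, hp⟩ := exists_specAlg p
    exact ⟨A, _, _, e, he, hp, fdl_spec_iff.1
      (fdl_of_iso (inv e) (by rw [← hp, IsIso.inv_hom_id_assoc]) h)⟩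
  · rintro ⟨A, _, _, e, he, hp, hA⟩
    exact fdl_of_iso e hp (fdl_spec_iff.2 hA)

lemma fdl_mono {K : CommRingCat.{u}} {T : Scheme.{u}} {p : T ⟶ Spec K} {m n : ℕ}
    (h : FiniteOfDegLE K p m) (hmn : m ≤ n) : FiniteOfDegLE K p n :=
  ⟨h.1, h.2.1, h.2.2.trans hmn⟩

variable {K L : Type u} [Field K] [Field L]

lemma fdl_finite {T : Scheme.{u}} {p : T ⟶ Spec (CommRingCat.of K)} {n : ℕ}
    (h : FiniteOfDegLE (CommRingCat.of K) p n) : Finite T ∧ DiscreteTopology T := by
  obtain ⟨A, _, _, e, he, -, hA, -⟩ := fdl_iff.1 h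
  have : IsArtinianRing A := IsArtinianRing.of_finite K A
  let ε := (asIso e).hom.homeomorph
  have : Finite (Spec (CommRingCat.of A)) := inferInstanceAs (Finite (PrimeSpectrum A))
  have : DiscreteTopology (Spec (CommRingCat.of A)) := inferInstanceAs (DiscreteTopology (PrimeSpectrum A))
  exact ⟨Finite.of_equiv _ ε.toEquiv.symm, ε.symm.discreteTopology⟩

lemma isPullback_specAlg (A : Type u) [CommRing A] [Algebra K A] [Algebra K L] :
    IsPullback (Spec.map (CommRingCat.ofHom (Algebra.TensorProduct.includeRight.toRingHom : A →+* L ⊗[K] A)))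
      (specAlg L (L ⊗[K] A)) (specAlg K A) (specAlg K L) := by
  refine (IsPullback.of_iso_pullback ⟨?_⟩ (pullbackSpecIso K L A).symm ?_ ?_).flip
  · rw [← Spec.map_comp, ← Spec.map_comp]
    congr 1
    ext r
    exact ((Algebra.TensorProduct.includeRight : A →ₐ[K] L ⊗[K] A).commutes r).symm
  · exact pullbackSpecIso_inv_fst' K L A
  · exact pullbackSpecIso_inv_snd K L A

lemma fdl_baseChange {T T' : Scheme.{u}} {p : T ⟶ Spec (CommRingCat.of K)} [Algebra K L]
    {p' : T' ⟶ Spec (CommRingCat.of L)} {g : T' ⟶ T} (h : IsPullback g p' p (specAlg K L)) {n : ℕ}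
    (hp : FiniteOfDegLE (CommRingCat.of K) p n) : FiniteOfDegLE (CommRingCat.of L) p' n := by
  obtain ⟨A, _, _, e, he, he', hA, hn⟩ := fdl_iff.1 hp
  have h' : IsPullback (g ≫ e) p' (specAlg K A) (specAlg K L) :=
    h.of_iso (Iso.refl _) (asIso e) (Iso.refl _) (Iso.refl _) (by simp) (by simp) (by simp [he']) (by simp)
  let E := h'.isoIsPullback _ _ (isPullback_specAlg (K := K) (L := L) A)
  refine fdl_iff.2 ⟨L ⊗[K] A, _, _, E.hom, inferInstance, IsPullback.isoIsPullback_hom_snd _ _ _ _,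
    inferInstance, ?_⟩
  rw [Module.finrank_baseChange]
  exact hn

lemma flat_surjective_specAlg [Algebra K L] :
    Flat (specAlg K L) ∧ Surjective (specAlg K L) ∧ QuasiCompact (specAlg K L) := by
  refine ⟨?_, ⟨fun x => ⟨IsLocalRing.closedPoint L, ?_⟩⟩, inferInstance⟩
  · rw [Flat.SpecMap_iff]
    exact RingHom.flat_algebraMap_iff.2 inferInstance
  · exact Subsingleton.elim (α := PrimeSpectrum K) _ _

lemma fdl_descend {T T' : Scheme.{u}} {p : T ⟶ Spec (CommRingCat.of K)} [Algebra K L]
    {p' : T' ⟶ Spec (CommRingCat.of L)} {g : T' ⟶ T} (h : IsPullback g p' p (specAlg K L)) {n : ℕ}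
    (hp : FiniteOfDegLE (CommRingCat.of L) p' n) : FiniteOfDegLE (CommRingCat.of K) p n := by
  obtain ⟨hfl, hs, hqc⟩ := flat_surjective_specAlg (K := K) (L := L)
  have : Flat g := MorphismProperty.of_isPullback h.flip hfl
  have : Surjective g := MorphismProperty.of_isPullback h.flip hs
  have : QuasiCompact g := MorphismProperty.of_isPullback h.flip hqc
  obtain ⟨hfin, hdisc⟩ := fdl_finite hp
  have : Finite T := Finite.of_surjective g g.surjective
  have hq : Topology.IsQuotientMap g := Flat.isQuotientMap_of_surjective g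
  have : DiscreteTopology T :=
    discreteTopology_iff_forall_isOpen.2 fun s => hq.isOpen_preimage.1 (isOpen_discrete _)
  have : IsAffine T := inferInstance
  obtain ⟨A, _, _, e, he, he'⟩ := exists_specAlg p
  have h' : IsPullback (g ≫ e) p' (specAlg K A) (specAlg K L) :=
    h.of_iso (Iso.refl _) (asIso e) (Iso.refl _) (Iso.refl _) (by simp) (by simp) (by simp [he']) (by simp)
  let E := h'.isoIsPullback _ _ (isPullback_specAlg (K := K) (L := L) A)
  have hE : E.inv ≫ p' = specAlg L (L ⊗[K] A) := IsPullback.isoIsPullback_inv_snd _ _ _ _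
  obtain ⟨hF, hn⟩ := fdl_spec_iff.1 (fdl_of_iso E.inv hE hp)
  have hAfin : Module.Finite K A := by
    rw [← Module.rank_lt_aleph0_iff]
    have := Module.rank_lt_aleph0 L (L ⊗[K] A)
    rwa [Module.rank_baseChange, Cardinal.lift_id] at this
  rw [Module.finrank_baseChange] at hn
  exact fdl_iff.2 ⟨A, _, _, e, he, he', hAfin, hn⟩

end Groth.Agent.Sweep9Lib

namespace Groth.Agent.Sweep9Lib

open BddFib

variable {X Y : Scheme.{u}}

/-- the pullback along a field valued point, as a base change of the fibre. -/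
lemma exists_fibre_square (f : X ⟶ Y) {k : Type u} [Field k] (g : Spec (CommRingCat.of k) ⟶ Y) :
    ∃ (y : Y) (_ : Algebra (Y.residueField y) k) (r : pullback f g ⟶ f.fiber y),
      specAlg (Y.residueField y) k ≫ Y.fromSpecResidueField y = g ∧
      IsPullback r (pullback.snd f g) (f.fiberToSpecResidueField y) (specAlg (Y.residueField y) k) := by
  let y := g (IsLocalRing.closedPoint k)
  let φ := Y.descResidueField (Scheme.stalkClosedPointTo g)
  let := φ.hom.toAlgebra
  have hg : specAlg (Y.residueField y) k ≫ Y.fromSpecResidueField y = g :=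
    Y.descResidueField_stalkClosedPointTo_fromSpecResidueField k g
  let r : pullback f g ⟶ f.fiber y :=
    pullback.lift (pullback.fst f g) (pullback.snd f g ≫ specAlg (Y.residueField y) k)
      (by rw [Category.assoc, hg, pullback.condition])
  refine ⟨y, φ.hom.toAlgebra, r, hg, ?_⟩
  have hbot : IsPullback (pullback.fst f (Y.fromSpecResidueField y)) (f.fiberToSpecResidueField y) f
      (Y.fromSpecResidueField y) := IsPullback.of_hasPullback _ _
  refine IsPullback.of_right ?_ (pullback.lift_snd _ _ _) hbot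
  rw [hg, show r ≫ pullback.fst f (Y.fromSpecResidueField y) = pullback.fst f g from pullback.lift_fst _ _ _]
  exact IsPullback.of_hasPullback f g

theorem fibreDeg_iff (f : X ⟶ Y) (n : ℕ) :
    FibreDegLE f n ↔ ∀ (k : Type u) [Field k] (g : Spec (CommRingCat.of k) ⟶ Y),
      FiniteOfDegLE (CommRingCat.of k) (pullback.snd f g) n := by
  refine ⟨fun h k _ g => ?_, fun h y => h (Y.residueField y) (Y.fromSpecResidueField y)⟩
  obtain ⟨y, _, r, -, hr⟩ := exists_fibre_square f g
  exact fdl_baseChange (K := Y.residueField y) hr (h y)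

theorem fibreDeg_of_isPullback {X' Y' : Scheme.{u}} (f : X ⟶ Y) (g : Y' ⟶ Y) (f' : X' ⟶ Y') (g' : X' ⟶ X)
    (h : IsPullback g' f' f g) (n : ℕ) (hf : FibreDegLE f n) : FibreDegLE f' n := by
  rw [fibreDeg_iff] at hf ⊢
  intro k _ γ
  have hh := (IsPullback.of_hasPullback f' γ).paste_horiz h
  exact fdl_of_iso hh.isoPullback.hom (hh.isoPullback_hom_snd) (hf k (γ ≫ g))

theorem fibreDeg_descend {X' Y' : Scheme.{u}} (f : X ⟶ Y) (g : Y' ⟶ Y) [Surjective g]
    (f' : X' ⟶ Y') (g' : X' ⟶ X) (h : IsPullback g' f' f g) (n : ℕ) (hf' : FibreDegLE f' n) :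
    FibreDegLE f n := by
  intro y
  obtain ⟨y', rfl⟩ := g.surjective y
  rw [fibreDeg_iff] at hf'
  let γ := Y'.fromSpecResidueField y'
  have hh := (IsPullback.of_hasPullback f' γ).paste_horiz h
  let φ := g.residueFieldMap y'
  let := φ.hom.toAlgebra
  have hγ : specAlg (Y.residueField (g y')) (Y'.residueField y') ≫ Y.fromSpecResidueField (g y') = γ ≫ g :=
    g.SpecMap_residueFieldMap_fromSpecResidueField y'
  let r : pullback f' γ ⟶ f.fiber (g y') :=
    pullback.lift (pullback.fst f' γ ≫ g') (pullback.snd f' γ ≫ specAlg (Y.residueField (g y')) (Y'.residueField y'))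
      (by rw [Category.assoc, Category.assoc, hγ, h.w, pullback.condition_assoc])
  have hr : IsPullback r (pullback.snd f' γ) (f.fiberToSpecResidueField (g y'))
      (specAlg (Y.residueField (g y')) (Y'.residueField y')) := by
    have hbot : IsPullback (pullback.fst f (Y.fromSpecResidueField (g y'))) (f.fiberToSpecResidueField (g y')) f
        (Y.fromSpecResidueField (g y')) := IsPullback.of_hasPullback _ _
    refine IsPullback.of_right ?_ (pullback.lift_snd _ _ _) hbot
    rw [hγ, show r ≫ pullback.fst f (Y.fromSpecResidueField (g y')) = pullback.fst f' γ ≫ g' from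
      pullback.lift_fst _ _ _]
    exact hh
  exact fdl_descend (K := Y.residueField (g y')) (L := Y'.residueField y') hr (hf' (Y'.residueField y') γ)

theorem natCard_le_of_fdl {K : Type u} [Field K] {T : Scheme.{u}} {p : T ⟶ Spec (CommRingCat.of K)}
    {n : ℕ} (h : FiniteOfDegLE (CommRingCat.of K) p n) : Finite T ∧ Nat.card T ≤ n := by
  refine ⟨(fdl_finite h).1, ?_⟩
  obtain ⟨A, _, _, e, he, -, hA, hn⟩ := fdl_iff.1 h
  have : IsArtinianRing A := IsArtinianRing.of_finite K A
  rw [Nat.card_congr (asIso e).hom.homeomorph.toEquiv]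
  refine le_trans ?_ hn
  change Nat.card (PrimeSpectrum A) ≤ _
  rw [← Nat.card_congr IsArtinianRing.primeSpectrumEquivMaximalSpectrum.symm]
  let L : A →ₗ[K] (Π m : MaximalSpectrum A, A ⧸ m.asIdeal) :=
    LinearMap.pi fun m => (Ideal.Quotient.mkₐ K m.asIdeal).toLinearMap
  have : Finite (MaximalSpectrum A) := inferInstance
  have := Fintype.ofFinite (MaximalSpectrum A)
  have hL : Function.Surjective L := by
    intro z
    obtain ⟨a, ha⟩ := Ideal.pi_quotient_surjective (I := fun m : MaximalSpectrum A => m.asIdeal)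
      (fun i j hij => Ideal.isCoprime_of_isMaximal fun h => hij (MaximalSpectrum.ext h)) z
    exact ⟨a, funext fun m => ha m⟩
  refine le_trans ?_ (LinearMap.finrank_le_finrank_of_surjective hL)
  rw [Module.finrank_pi_fintype, Nat.card_eq_fintype_card, ← Finset.card_univ, Finset.card_eq_sum_ones]
  exact Finset.sum_le_sum fun m _ => Module.finrank_pos

end Groth.Agent.Sweep9Lib
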